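import Mathlib

/-!
Commutators among the determinant-one isometries of a Hermitian matrix over a finite field with a field
automorphism `σ` of order two.
-/

set_option autoImplicit false
set_option linter.unusedSectionVars false

namespace CfsgLib.SUComm

open Matrix Polynomial

universe u

variable {K : Type u} [Field K] [Fintype K]

/-- The conjugation of a field with `q ^ 2` elements. -/
structure Cj (K : Type u) [Field K] [Fintype K] where
  /-- The order of the fixed field. -/
  q : ℕ
  /-- The map. -/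
  σ : K →+* K
  σ_eq : ∀ x, σ x = x ^ q
  σσ : ∀ x, σ (σ x) = x
  card : Fintype.card K = q ^ 2

theorem exists_cj (q : ℕ) (h : Fintype.card K = q ^ 2) : ∃ J : Cj K, J.q = q := by
  obtain ⟨p, hp⟩ := CharP.exists K
  haveI : Fact p.Prime := ⟨CharP.char_is_prime K p⟩
  obtain ⟨k, -, hk⟩ := FiniteField.card K p
  have hdvd : q ∣ p ^ (k : ℕ) := by rw [← hk, h]; exact dvd_pow_self q (by norm_num)
  obtain ⟨j, -, rfl⟩ := (Nat.dvd_prime_pow (Fact.out : p.Prime)).1 hdvd
  exact ⟨{ q := p ^ j, σ := iterateFrobenius K p j, σ_eq := fun x => iterateFrobenius_def ..,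
           σσ := fun x => by
             rw [iterateFrobenius_def, iterateFrobenius_def, ← pow_mul, ← sq, ← h, FiniteField.pow_card]
           card := h }, rfl⟩

namespace Cj

variable (J : Cj K)

theorem q_two : 2 ≤ J.q := by
  by_contra hc
  have h1 : 1 < Fintype.card K := Fintype.one_lt_card
  rw [J.card] at h1
  rcases (by omega : J.q = 0 ∨ J.q = 1) with h | h <;> simp [h] at h1

theorem exists_moved : ∃ θ : K, J.σ θ ≠ θ := by
  classical
  by_contra hc
  push Not at hc
  have h2 := J.q_two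
  have hne : (X ^ J.q - X : K[X]) ≠ 0 := FiniteField.X_pow_card_sub_X_ne_zero K h2
  have hsub : (Finset.univ : Finset K) ⊆ (X ^ J.q - X : K[X]).roots.toFinset := fun x _ => by
    rw [Multiset.mem_toFinset, mem_roots hne]
    simp [← J.σ_eq, hc x]
  have h1 := (Finset.card_le_card hsub).trans ((Multiset.toFinset_card_le _).trans (card_roots' _))
  rw [Finset.card_univ, J.card, FiniteField.X_pow_card_sub_X_natDegree_eq K h2] at h1
  nlinarith

theorem exists_skew : ∃ e : K, e ≠ 0 ∧ J.σ e = -e := by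
  obtain ⟨θ, hθ⟩ := J.exists_moved
  exact ⟨θ - J.σ θ, sub_ne_zero.2 (Ne.symm hθ), by rw [map_sub, J.σσ, neg_sub]⟩

theorem exists_trace_one : ∃ t : K, t + J.σ t = 1 := by
  obtain ⟨θ, hθ⟩ : ∃ θ : K, θ + J.σ θ ≠ 0 := by
    by_contra hc
    push Not at hc
    obtain ⟨θ, hθ⟩ := J.exists_moved
    have h1 := hc 1
    rw [map_one] at h1
    exact hθ (by linear_combination hc θ - θ * h1)
  refine ⟨θ / (θ + J.σ θ), ?_⟩
  rw [map_div₀, map_add, J.σσ, add_comm (J.σ θ) θ, ← add_div, div_self hθ]

theorem exists_norm {r : K} (hr : J.σ r = r) : ∃ w : K, w * J.σ w = r := by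
  rcases eq_or_ne r 0 with rfl | h0
  · exact ⟨0, by simp⟩
  have h2 := J.q_two
  classical
  obtain ⟨g, hg⟩ := IsCyclic.exists_generator (α := Kˣ)
  obtain ⟨k, hk⟩ := mem_powers_iff_mem_zpowers.2 (hg (Units.mk0 r h0))
  have hord : orderOf g = J.q ^ 2 - 1 := by
    rw [orderOf_eq_card_of_forall_mem_zpowers hg, Nat.card_eq_fintype_card, Fintype.card_units, J.card]
  have hfix : g ^ (k * (J.q - 1)) = 1 := by
    apply Units.ext
    rw [pow_mul, show g ^ k = Units.mk0 r h0 from hk, Units.val_pow_eq_pow_val, Units.val_mk0, Units.val_one]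
    refine mul_right_cancel₀ h0 ?_
    rw [← pow_succ, show J.q - 1 + 1 = J.q by omega, ← J.σ_eq, hr, one_mul]
  rw [← orderOf_dvd_iff_pow_eq_one, hord] at hfix
  rw [show J.q ^ 2 - 1 = (J.q + 1) * (J.q - 1) by
    rw [← Nat.sq_sub_sq]] at hfix
  obtain ⟨j, hj⟩ := Nat.dvd_of_mul_dvd_mul_right (by omega) hfix
  refine ⟨((g ^ j : Kˣ) : K), ?_⟩
  rw [J.σ_eq, ← pow_succ', ← Units.val_pow_eq_pow_val, ← pow_mul, mul_comm, ← hj,
    show g ^ k = Units.mk0 r h0 from hk, Units.val_mk0]

end Cj

/-- The adjoint. -/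
def sad (J : Cj K) {ι κ : Type*} (M : Matrix ι κ K) : Matrix κ ι K := (M.map J.σ)ᵀ

variable (J : Cj K) {ι κ μ : Type*}

theorem sad_mul [Fintype ι] (M : Matrix μ ι K) (N : Matrix ι κ K) : sad J (M * N) = sad J N * sad J M := by
  rw [sad, Matrix.map_mul, Matrix.transpose_mul]; rfl

@[simp] theorem sad_one [DecidableEq ι] : sad J (1 : Matrix ι ι K) = 1 := by simp [sad]

@[simp] theorem sad_zero : sad J (0 : Matrix ι κ K) = 0 := by ext i j; simp [sad]

@[simp] theorem sad_sad (M : Matrix ι κ K) : sad J (sad J M) = M := by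
  ext i j; simp [sad, J.σσ]

@[simp] theorem sad_add (M N : Matrix ι κ K) : sad J (M + N) = sad J M + sad J N := by
  ext i j; simp [sad]

@[simp] theorem sad_neg (M : Matrix ι κ K) : sad J (-M) = -sad J M := by
  ext i j; simp [sad]

@[simp] theorem sad_sub (M N : Matrix ι κ K) : sad J (M - N) = sad J M - sad J N := by
  ext i j; simp [sad]

@[simp] theorem sad_smul (c : K) (M : Matrix ι κ K) : sad J (c • M) = J.σ c • sad J M := by
  ext i j; simp [sad]

theorem sad_fromBlocks {α β : Type*} (A : Matrix ι α K) (B : Matrix ι β K) (C : Matrix κ α K) (D : Matrix κ β K) :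
    sad J (fromBlocks A B C D) = fromBlocks (sad J A) (sad J C) (sad J B) (sad J D) := by
  simp [sad, fromBlocks_map, fromBlocks_transpose]

theorem det_sad [Fintype ι] [DecidableEq ι] (M : Matrix ι ι K) : (sad J M).det = J.σ M.det := by
  rw [sad, det_transpose]
  exact (J.σ.map_det M).symm

/-- An isometry of `H`. -/
def Iso [Fintype ι] (H g : Matrix ι ι K) : Prop := sad J g * H * g = H

variable [Fintype ι] [DecidableEq ι]

theorem Iso.mul {H g h : Matrix ι ι K} (hg : Iso J H g) (hh : Iso J H h) : Iso J H (g * h) := by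
  show sad J (g * h) * H * (g * h) = H
  calc sad J (g * h) * H * (g * h) = sad J h * (sad J g * H * g) * h := by
        rw [sad_mul]; simp only [Matrix.mul_assoc]
    _ = H := by rw [hg, hh]

theorem Iso.one {H : Matrix ι ι K} : Iso J H 1 := by simp [Iso]

/-- A commutator of two isometries of determinant one, written without inverses. -/
def IsC (H g : Matrix ι ι K) : Prop :=
  ∃ a b : Matrix ι ι K, Iso J H a ∧ Iso J H b ∧ a.det = 1 ∧ b.det = 1 ∧ g * (b * a) = a * b

theorem det_conj [Fintype μ] [DecidableEq μ] {Y : Matrix ι μ K} {Z : Matrix μ ι K} (hYZ : Y * Z = 1)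
    (hZY : Z * Y = 1) (a : Matrix ι ι K) : (Z * a * Y).det = a.det := by
  have hc : Fintype.card ι = Fintype.card μ := Matrix.square_of_invertible Y Z hYZ hZY
  let e := Fintype.equivOfCardEq hc
  have h1 : (Z.submatrix id e.symm) * ((a * Y).submatrix e.symm id) = Z * a * Y := by
    rw [submatrix_mul_equiv, submatrix_id_id, Matrix.mul_assoc]
  rw [← h1, det_mul_comm, ← submatrix_mul _ _ e.symm id e.symm Function.bijective_id, Matrix.mul_assoc, hYZ,
    Matrix.mul_one, det_submatrix_equiv_self]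

/-- Commutators only depend on the isometry class. -/
theorem IsC.transport [Fintype μ] [DecidableEq μ] {H g : Matrix ι ι K} {H' g' : Matrix μ μ K}
    {Y : Matrix ι μ K} {Z : Matrix μ ι K} (hYZ : Y * Z = 1) (hZY : Z * Y = 1) (hH : sad J Y * H * Y = H')
    (hg : g' = Z * g * Y) (h : IsC J H g) : IsC J H' g' := by
  obtain ⟨a, b, h1, h2, h3, h4, h5⟩ := h
  have e : ∀ x y : Matrix ι ι K, (Z * x * Y) * (Z * y * Y) = Z * (x * y) * Y := fun x y => by
    calc Z * x * Y * (Z * y * Y) = Z * x * (Y * Z) * y * Y := by simp only [Matrix.mul_assoc]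
      _ = _ := by rw [hYZ, Matrix.mul_one]; simp only [Matrix.mul_assoc]
  have hiso : ∀ x, Iso J H x → Iso J H' (Z * x * Y) := fun x hx => by
    show sad J (Z * x * Y) * H' * (Z * x * Y) = H'
    rw [← hH, sad_mul, sad_mul]
    calc sad J Y * (sad J x * sad J Z) * (sad J Y * H * Y) * (Z * x * Y)
        = sad J Y * sad J x * (sad J Z * sad J Y) * H * (Y * Z) * x * Y := by simp only [Matrix.mul_assoc]
      _ = sad J Y * (sad J x * H * x) * Y := by
        rw [← sad_mul J Y Z, hYZ, sad_one]; simp only [Matrix.mul_one, Matrix.mul_assoc]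
      _ = _ := by rw [hx]
  exact ⟨Z * a * Y, Z * b * Y, hiso a h1, hiso b h2, by rw [det_conj hYZ hZY, h3], by rw [det_conj hYZ hZY, h4],
    by rw [e, hg, e, e, h5]⟩

/-- Block sums with the same number of copies of one piece. -/
theorem IsC.blockDiagonal {o : Type*} [Fintype o] [DecidableEq o] {H g : Matrix ι ι K} (h : IsC J H g) :
    IsC J (Matrix.blockDiagonal fun _ : o => H) (Matrix.blockDiagonal fun _ : o => g) := by
  obtain ⟨a, b, h1, h2, h3, h4, h5⟩ := h
  have hs : ∀ x : Matrix ι ι K, sad J (Matrix.blockDiagonal fun _ : o => x) =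
      Matrix.blockDiagonal fun _ : o => sad J x := fun x => by
    rw [sad, Matrix.blockDiagonal_map _ _ (map_zero J.σ), Matrix.blockDiagonal_transpose]; rfl
  refine ⟨Matrix.blockDiagonal fun _ => a, Matrix.blockDiagonal fun _ => b, ?_, ?_, ?_, ?_, ?_⟩
  · show _ * _ * _ = _
    rw [hs, ← blockDiagonal_mul, ← blockDiagonal_mul]; simp only [show sad J a * H * a = H from h1]
  · show _ * _ * _ = _
    rw [hs, ← blockDiagonal_mul, ← blockDiagonal_mul]; simp only [show sad J b * H * b = H from h2]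
  · rw [det_blockDiagonal]; simp [h3]
  · rw [det_blockDiagonal]; simp [h4]
  · simp only [← blockDiagonal_mul, h5]

end CfsgLib.SUComm
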