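import Cfsg.Agent.Lib.SUComm.Normal
import Cfsg.Agent.Lib.OreLevi.FactorChoice

/-!
Moves of determinant one that change the Levi part by a prescribed kind of rank one matrix.
-/

set_option autoImplicit false
set_option linter.unusedSectionVars false

namespace CfsgLib.SUComm

open Matrix Polynomial

universe u

variable {K : Type u} [Field K] [Fintype K] (J : Cj K) {m : ℕ}

/-- A rank one move with data `ν`, `τ`. -/
def Mv (S : Matrix (Fin m) (Fin m) K) (bv Y r : Fin m → K) : Prop :=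
  (∃ ν τ : K, τ + J.σ τ + ν * J.σ ν = 0 ∧ (bv = 0 → ν = 0) ∧ r = ν • bv + τ • ((J.σ ∘ Y) ᵥ* S)) ∨
    ∃ y : Fin m → K, (J.σ ∘ Y) ᵥ* S = 0 ∧ bv = 0 ∧ r = (J.σ ∘ y) ᵥ* S

/-- The form of `S`. -/
def sf (S : Matrix (Fin m) (Fin m) K) (x y : Fin m → K) : K := ((J.σ ∘ x) ᵥ* S) ⬝ᵥ y

variable {J}

theorem sf_eq (S : Matrix (Fin m) (Fin m) K) (x y : Fin m → K) :
    sf J S x y = ∑ i, ∑ j, J.σ (x i) * S i j * y j := by
  simp only [sf, Matrix.vecMul, dotProduct, Finset.sum_mul, Function.comp_apply]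
  exact Finset.sum_comm

theorem sf_add_right (S : Matrix (Fin m) (Fin m) K) (x y z : Fin m → K) :
    sf J S x (y + z) = sf J S x y + sf J S x z := by simp [sf]

theorem sf_smul_right (S : Matrix (Fin m) (Fin m) K) (x y : Fin m → K) (c : K) :
    sf J S x (c • y) = c * sf J S x y := by simp [sf]

theorem comp_add (x y : Fin m → K) : J.σ ∘ (x + y) = J.σ ∘ x + J.σ ∘ y := funext fun r => map_add J.σ _ _

theorem comp_smul (c : K) (x : Fin m → K) : J.σ ∘ (c • x) = J.σ c • (J.σ ∘ x) := funext fun r => by simp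

theorem sf_add_left (S : Matrix (Fin m) (Fin m) K) (x y z : Fin m → K) :
    sf J S (x + y) z = sf J S x z + sf J S y z := by simp [sf, comp_add, add_vecMul]

theorem sf_smul_left (S : Matrix (Fin m) (Fin m) K) (x y : Fin m → K) (c : K) :
    sf J S (c • x) y = J.σ c * sf J S x y := by simp [sf, comp_smul, smul_vecMul]

theorem vecMul_sigma_eq_zero {S : Matrix (Fin m) (Fin m) K} {x : Fin m → K} (h : ∀ y, sf J S x y = 0) :
    (J.σ ∘ x) ᵥ* S = 0 := dotProduct_eq_zero _ h

/-- The symmetry of the form. -/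
theorem sf_swap {S : Matrix (Fin m) (Fin m) K} {bv : Fin m → K}
    (hS : S + sad J S + vecMulVec (J.σ ∘ bv) bv = 0) (x y : Fin m → K) :
    sf J S x y + J.σ (sf J S y x) + J.σ (bv ⬝ᵥ x) * (bv ⬝ᵥ y) = 0 := by
  have h : ∀ i j, S i j + J.σ (S j i) + J.σ (bv i) * bv j = 0 := fun i j => by
    simpa [sad, vecMulVec_apply] using congrFun (congrFun hS i) j
  rw [sf_eq, sf_eq, map_sum]
  simp only [map_sum, map_mul, J.σσ]
  rw [Finset.sum_comm (f := fun i j => y i * J.σ (S i j) * J.σ (x j)), dotProduct, dotProduct, map_sum,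
    Finset.sum_mul, ← Finset.sum_add_distrib, ← Finset.sum_add_distrib]
  refine Finset.sum_eq_zero fun i _ => ?_
  rw [map_mul, Finset.mul_sum, ← Finset.sum_add_distrib, ← Finset.sum_add_distrib]
  refine Finset.sum_eq_zero fun j _ => ?_
  linear_combination J.σ (x i) * y j * h i j

/-- A form vanishing on a subspace vanishes on its pairs. -/
theorem sf_polar {S : Matrix (Fin m) (Fin m) K} {bv : Fin m → K}
    (hS : S + sad J S + vecMulVec (J.σ ∘ bv) bv = 0) {W : Submodule K (Fin m → K)}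
    (hb : ∀ x ∈ W, bv ⬝ᵥ x = 0) (h : ∀ x ∈ W, sf J S x x = 0) {x y : Fin m → K} (hx : x ∈ W) (hy : y ∈ W) :
    sf J S x y = 0 := by
  obtain ⟨θ, hθ⟩ := J.exists_moved
  have h1 := h _ (W.add_mem hx hy)
  have h2 := h _ (W.add_mem hx (W.smul_mem θ hy))
  simp only [sf_add_left, sf_add_right, sf_smul_left, sf_smul_right, h x hx, h y hy] at h1 h2
  have h3 := sf_swap hS y x
  rw [hb y hy, hb x hx, map_zero, mul_zero, add_zero] at h3
  have : (θ - J.σ θ) * sf J S x y = 0 := by linear_combination h2 - J.σ θ * h1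
  exact (mul_eq_zero.1 this).resolve_left (sub_ne_zero.2 (Ne.symm hθ))

theorem exists_ker_ne_zero (hm : 2 ≤ m) (r : Fin m → K) : ∃ x : Fin m → K, x ≠ 0 ∧ r ⬝ᵥ x = 0 := by
  by_cases h : r ⟨0, by omega⟩ = 0
  · exact ⟨Pi.single ⟨0, by omega⟩ 1, by simp, by simp [h]⟩
  · refine ⟨Pi.single ⟨0, by omega⟩ (-(r ⟨1, by omega⟩)) + Pi.single ⟨1, by omega⟩ (r ⟨0, by omega⟩), fun e => h ?_, ?_⟩
    · simpa [Pi.single_apply, Fin.ext_iff] using congrFun e ⟨1, by omega⟩
    · simp [mul_comm]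

/-- A functional vanishing on the kernel of another is a multiple of it. -/
theorem eq_smul_of_ker {r w : Fin m → K} (hr : r ≠ 0) (h : ∀ x, r ⬝ᵥ x = 0 → w ⬝ᵥ x = 0) :
    ∃ c : K, w = c • r := by
  obtain ⟨i, hi⟩ := Function.ne_iff.1 hr
  refine ⟨w i / r i, funext fun j => ?_⟩
  have := h (Pi.single j (r i) - Pi.single i (r j)) (by simp [mul_comm])
  rw [dotProduct_sub, dotProduct_single, dotProduct_single] at this
  simp only [Pi.smul_apply, smul_eq_mul]
  rw [div_mul_eq_mul_div, eq_div_iff hi]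
  linear_combination this

/-- A nonzero vector of the kernel outside a line, unless the two functionals agree. -/
theorem exists_ker_notMem (hm : 2 ≤ m) {r p w : Fin m → K} (hr : r ≠ 0) (hwp : w ⬝ᵥ p = 0) (hpw : p = 0 ↔ w = 0)
    (hn : ¬ (w ≠ 0 ∧ ∃ c : K, w = c • r)) : ∃ x, r ⬝ᵥ x = 0 ∧ ∀ c : K, x ≠ c • p := by
  by_contra hc
  push Not at hc
  obtain ⟨x, hx0, hx⟩ := exists_ker_ne_zero hm r
  refine hn ⟨fun hw => ?_, eq_smul_of_ker hr fun z hz => ?_⟩
  · obtain ⟨c, rfl⟩ := hc x hx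
    simp [hpw.2 hw] at hx0
  · obtain ⟨c, rfl⟩ := hc z hz
    simp [hwp]

theorem exists_three_norm_one : ∃ a b c : K, a * J.σ a = 1 ∧ b * J.σ b = 1 ∧ c * J.σ c = 1 ∧ a ≠ b ∧ a ≠ c ∧ b ≠ c := by
  classical
  have h2 := J.q_two
  obtain ⟨g, hg⟩ := IsCyclic.exists_generator (α := Kˣ)
  have hord : orderOf g = J.q ^ 2 - 1 := by
    rw [orderOf_eq_card_of_forall_mem_zpowers hg, Nat.card_eq_fintype_card, Fintype.card_units, J.card]
  have hfac : J.q ^ 2 - 1 = (J.q + 1) * (J.q - 1) := by rw [← Nat.sq_sub_sq]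
  have hy : orderOf (g ^ (J.q - 1)) = J.q + 1 := by
    rw [orderOf_pow' _ (by omega), hord, hfac, Nat.gcd_eq_right (dvd_mul_left _ _), Nat.mul_div_cancel _ (by omega)]
  set y := g ^ (J.q - 1)
  have hn : ∀ j : ℕ, ((y ^ j : Kˣ) : K) * J.σ ((y ^ j : Kˣ) : K) = 1 := fun j => by
    rw [J.σ_eq, ← pow_succ', ← Units.val_pow_eq_pow_val, ← pow_mul, mul_comm, pow_mul, ← hy, pow_orderOf_eq_one,
      one_pow, Units.val_one]
  have hne : ∀ i j : ℕ, i < 3 → j < 3 → ((y ^ i : Kˣ) : K) = ((y ^ j : Kˣ) : K) → i = j := fun i j hi hj e =>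
    pow_injOn_Iio_orderOf (Set.mem_Iio.2 (by omega)) (Set.mem_Iio.2 (by omega)) (Units.ext e)
  exact ⟨_, _, _, hn 0, hn 1, hn 2, fun e => absurd (hne 0 1 (by omega) (by omega) e) (by omega),
    fun e => absurd (hne 0 2 (by omega) (by omega) e) (by omega),
    fun e => absurd (hne 1 2 (by omega) (by omega) e) (by omega)⟩

/-- Moves in the skew case. -/
theorem exists_fix_skew (hm : 2 ≤ m) {S : Matrix (Fin m) (Fin m) K} (hS : S + sad J S = 0) (hS0 : S ≠ 0)
    {p w : Fin m → K} (hwp : w ⬝ᵥ p = 0) (hpw : p = 0 ↔ w = 0) :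
    ∃ Y r, Mv J S 0 Y r ∧ r ⬝ᵥ Y = 0 ∧
      (w ≠ 0 ∧ vecMulVec Y r = -vecMulVec p w ∨ (∀ c : K, Y ≠ c • p) ∧ ∀ c : K, r ≠ c • w) := by
  have hS' : S + sad J S + vecMulVec (J.σ ∘ (0 : Fin m → K)) 0 = 0 := by simp [hS]
  obtain ⟨y0, hy0⟩ : ∃ y, sf J S y y ≠ 0 := by
    by_contra hc
    push Not at hc
    refine hS0 (Matrix.ext fun i j => ?_)
    have := sf_polar hS' (W := ⊤) (fun x _ => by simp) (fun x _ => hc x) (Submodule.mem_top (x := Pi.single i 1))
      (Submodule.mem_top (x := Pi.single j 1))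
    rw [sf, show J.σ ∘ (Pi.single i (1 : K) : Fin m → K) = Pi.single i 1 from funext fun r => by
      by_cases hr : r = i <;> simp [hr], Matrix.single_one_vecMul, dotProduct_single_one] at this
    exact this
  set r0 := (J.σ ∘ y0) ᵥ* S with hr0
  have hr0' : r0 ≠ 0 := fun e => hy0 (by rw [sf, ← hr0, e, zero_dotProduct])
  have hskew : ∀ x, J.σ (sf J S x x) = -sf J S x x := fun x => by
    have := sf_swap hS' x x
    simp at this
    linear_combination this
  by_cases hA : ∃ x, r0 ⬝ᵥ x = 0 ∧ sf J S x x ≠ 0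
  · obtain ⟨x, hx, hxx⟩ := hA
    have hx' : sf J S x y0 = 0 := by
      have := sf_swap hS' x y0
      rw [show sf J S y0 x = 0 from hx] at this
      simpa using this
    obtain ⟨e, he0, he⟩ := J.exists_skew
    obtain ⟨l0, hl0⟩ := J.exists_norm (r := -sf J S x x / sf J S y0 y0) (by
      rw [map_div₀, map_neg, hskew, hskew]; rw [neg_neg, div_neg, neg_div])
    have hl00 : l0 ≠ 0 := fun h => by
      rw [h, zero_mul, eq_comm, div_eq_zero_iff, neg_eq_zero] at hl0
      exact hl0.elim hxx hy0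
    -- the three isotropic vectors
    have key : ∀ t : K, t * J.σ t = 1 → Mv J S 0 (x + (l0 * t) • y0) (e • ((J.σ ∘ (x + (l0 * t) • y0)) ᵥ* S)) ∧
        (e • ((J.σ ∘ (x + (l0 * t) • y0)) ᵥ* S)) ⬝ᵥ (x + (l0 * t) • y0) = 0 := by
      intro t ht
      refine ⟨Or.inl ⟨0, e, by simp [he], fun _ => rfl, by simp⟩, ?_⟩
      rw [smul_dotProduct]
      change e • sf J S _ _ = 0
      simp only [sf_add_left, sf_add_right, sf_smul_left, sf_smul_right, hx', show sf J S y0 x = 0 from hx]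
      rw [show sf J S x x = -(sf J S y0 y0 * (l0 * J.σ l0)) by rw [hl0]; field_simp, map_mul]
      linear_combination (norm := (simp only [smul_eq_mul]; ring)) (e * sf J S y0 y0 * (l0 * J.σ l0)) * ht
    have hp2 : ∀ t t' c c' : K, t ≠ t' → x + (l0 * t) • y0 = c • p → x + (l0 * t') • y0 = c' • p → False := by
      intro t t' c c' hne h1 h2
      have h3 : (l0 * (t - t')) • y0 = (c - c') • p := by
        linear_combination (norm := module) h1 - h2
      have hy : y0 = ((c - c') / (l0 * (t - t'))) • p := by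
        rw [div_eq_inv_mul, mul_smul, ← h3, smul_smul, inv_mul_cancel₀ (mul_ne_zero hl00 (sub_ne_zero.2 hne)), one_smul]
      obtain ⟨d, hd⟩ : ∃ d : K, x = d • p := ⟨c - l0 * t * ((c - c') / (l0 * (t - t'))), by
        rw [sub_smul, ← smul_smul (l0 * t), ← hy, eq_sub_iff_add_eq]; exact h1⟩
      have h4 : sf J S x y0 = J.σ d * ((c - c') / (l0 * (t - t'))) * sf J S p p := by
        rw [hd, hy, sf_smul_left, sf_smul_right, mul_assoc]
      rw [hx'] at h4
      have h5 : sf J S y0 y0 = J.σ ((c - c') / (l0 * (t - t'))) * ((c - c') / (l0 * (t - t'))) * sf J S p p := by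
        rw [hy, sf_smul_left, sf_smul_right, mul_assoc]
      have h6 : sf J S x x = J.σ d * d * sf J S p p := by rw [hd, sf_smul_left, sf_smul_right, mul_assoc]
      rcases mul_eq_zero.1 h4.symm with h | h
      · rcases mul_eq_zero.1 h with h | h
        · exact hxx (by rw [h6, h]; ring)
        · exact hy0 (by rw [h5, h]; ring)
      · exact hxx (by rw [h6, h]; ring)
    have hw2 : ∀ t t' c c' : K, t ≠ t' → e • ((J.σ ∘ (x + (l0 * t) • y0)) ᵥ* S) = c • w →
        e • ((J.σ ∘ (x + (l0 * t') • y0)) ᵥ* S) = c' • w → False := by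
      intro t t' c c' hne h1 h2
      simp only [comp_add, comp_smul, add_vecMul, smul_vecMul, ← hr0, smul_add, smul_smul] at h1 h2
      have hl : e * (J.σ (l0 * t) - J.σ (l0 * t')) ≠ 0 := mul_ne_zero he0 (sub_ne_zero.2 fun h =>
        hne (mul_left_cancel₀ hl00 (J.σ.injective h)))
      have h3 : (e * (J.σ (l0 * t) - J.σ (l0 * t'))) • r0 = (c - c') • w := by
        linear_combination (norm := module) h1 - h2
      have hr : r0 = ((c - c') / (e * (J.σ (l0 * t) - J.σ (l0 * t')))) • w := by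
        rw [div_eq_inv_mul, mul_smul, ← h3, smul_smul, inv_mul_cancel₀ hl, one_smul]
      have hne' : (c - c') / (e * (J.σ (l0 * t) - J.σ (l0 * t'))) ≠ 0 := fun h => hr0' (by rw [hr, h, zero_smul])
      have hwx : w ⬝ᵥ x = 0 := by
        have : r0 ⬝ᵥ x = 0 := hx
        rw [hr, smul_dotProduct, smul_eq_mul, mul_eq_zero] at this
        exact this.resolve_left hne'
      have h7 := congrArg (· ⬝ᵥ x) h1
      simp only [add_dotProduct, smul_dotProduct, smul_eq_mul, hwx, mul_zero,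
        show r0 ⬝ᵥ x = 0 from hx, add_zero] at h7
      exact hxx ((mul_eq_zero.1 h7).resolve_left he0)
    obtain ⟨a, b, c, ha, hb, hc, hab, hac, hbc⟩ := exists_three_norm_one (J := J)
    suffices h : ∃ t : K, t * J.σ t = 1 ∧ (∀ u : K, x + (l0 * t) • y0 ≠ u • p) ∧
        ∀ u : K, e • ((J.σ ∘ (x + (l0 * t) • y0)) ᵥ* S) ≠ u • w by
      obtain ⟨t, ht, h1, h2⟩ := h
      exact ⟨_, _, (key t ht).1, (key t ht).2, Or.inr ⟨h1, h2⟩⟩
    by_contra hcon
    push Not at hcon
    have H : ∀ t : K, t * J.σ t = 1 → (∃ u : K, x + (l0 * t) • y0 = u • p) ∨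
        ∃ u : K, e • ((J.σ ∘ (x + (l0 * t) • y0)) ᵥ* S) = u • w := fun t ht => by
      by_cases h : ∃ u : K, x + (l0 * t) • y0 = u • p
      · exact Or.inl h
      · push Not at h; exact Or.inr (hcon t ht h)
    rcases H a ha with ⟨u, h1⟩ | ⟨u, h1⟩ <;> rcases H b hb with ⟨u', h2⟩ | ⟨u', h2⟩ <;>
      rcases H c hc with ⟨u'', h3⟩ | ⟨u'', h3⟩
    · exact hp2 a b u u' hab h1 h2
    · exact hp2 a b u u' hab h1 h2
    · exact hp2 a c u u'' hac h1 h3
    · exact hw2 b c u' u'' hbc h2 h3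
    · exact hp2 b c u' u'' hbc h2 h3
    · exact hw2 a c u u'' hac h1 h3
    · exact hw2 a b u u' hab h1 h2
    · exact hw2 a b u u' hab h1 h2
  · push Not at hA
    let W : Submodule K (Fin m → K) :=
      { carrier := {x | r0 ⬝ᵥ x = 0}, add_mem' := fun {a b} ha hb => by
          show r0 ⬝ᵥ (a + b) = 0
          rw [dotProduct_add, ha, hb, add_zero]
        zero_mem' := dotProduct_zero _, smul_mem' := fun c a ha => by
          show r0 ⬝ᵥ (c • a) = 0
          rw [dotProduct_smul, ha, smul_zero] }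
    have hrad : ∀ z, r0 ⬝ᵥ z = 0 → (J.σ ∘ z) ᵥ* S = 0 := fun z hz => vecMul_sigma_eq_zero fun y => by
      set c := (r0 ⬝ᵥ y) / sf J S y0 y0
      have hy : y - c • y0 ∈ W := by
        show r0 ⬝ᵥ (y - c • y0) = 0
        rw [dotProduct_sub, dotProduct_smul, smul_eq_mul]
        show _ - c * sf J S y0 y0 = 0
        rw [div_mul_cancel₀ _ hy0, sub_self]
      have h1 := sf_polar hS' (fun x _ => by simp) (fun x hx => hA x hx) (W := W) (x := z) hz hy
      have h2 : sf J S z y0 = 0 := by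
        have := sf_swap hS' z y0
        rw [show sf J S y0 z = 0 from hz] at this
        simpa using this
      have : sf J S z y = sf J S z (y - c • y0) + c * sf J S z y0 := by
        rw [← sf_smul_right, ← sf_add_right, sub_add_cancel]
      rw [this, h1, h2, mul_zero, add_zero]
    by_cases hw : w ≠ 0 ∧ ∃ c : K, w = c • r0
    · obtain ⟨hw0, c, hc⟩ := hw
      have hc0 : c ≠ 0 := fun h => hw0 (by rw [hc, h, zero_smul])
      have hp : r0 ⬝ᵥ p = 0 := by
        rw [hc, smul_dotProduct, smul_eq_mul, mul_eq_zero] at hwp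
        exact hwp.resolve_left hc0
      refine ⟨-p, w, Or.inr ⟨J.σ c • y0, ?_, rfl, ?_⟩, by simp [hwp], Or.inl ⟨hw0, neg_vecMulVec _ _⟩⟩
      · rw [show J.σ ∘ (-p) = -(J.σ ∘ p) from funext fun r => map_neg J.σ _, neg_vecMul, hrad p hp, neg_zero]
      · rw [comp_smul, J.σσ, smul_vecMul, hc]
    · obtain ⟨z, hz, hzp⟩ := exists_ker_notMem hm hr0' hwp hpw hw
      exact ⟨z, r0, Or.inr ⟨y0, hrad z hz, rfl, rfl⟩, hz, Or.inr ⟨hzp, fun c e => by
        by_cases hw0 : w = 0
        · exact hr0' (by rw [e, hw0, smul_zero])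
        · have hc0 : c ≠ 0 := fun h => hr0' (by rw [e, h, zero_smul])
          exact hw ⟨hw0, c⁻¹, by rw [e, smul_smul, inv_mul_cancel₀ hc0, one_smul]⟩⟩⟩

/-- Moves in the general case. -/
theorem exists_fix (hm : 2 ≤ m) {S : Matrix (Fin m) (Fin m) K} {bv : Fin m → K}
    (hS : S + sad J S + vecMulVec (J.σ ∘ bv) bv = 0) (hS0 : S ≠ 0) {p w : Fin m → K} (hwp : w ⬝ᵥ p = 0)
    (hpw : p = 0 ↔ w = 0) :
    ∃ Y r, Mv J S bv Y r ∧ r ⬝ᵥ Y = 0 ∧
      (w ≠ 0 ∧ vecMulVec Y r = -vecMulVec p w ∨ (∀ c : K, Y ≠ c • p) ∧ ∀ c : K, r ≠ c • w) := by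
  rcases eq_or_ne bv 0 with rfl | hb
  · exact exists_fix_skew hm (by simpa using hS) hS0 hwp hpw
  by_cases hB : ∃ x, bv ⬝ᵥ x = 0 ∧ sf J S x x ≠ 0
  · obtain ⟨x, hbx, hxx⟩ := hB
    classical
    have hkerne : ∀ v : Fin m → K, (∃ y, v ⬝ᵥ y ≠ 0) → LinearMap.ker (dotProductBilin K K v) ≠ ⊤ := by
      rintro v ⟨y, hy⟩ e
      exact hy (LinearMap.mem_ker.1 (e ▸ Submodule.mem_top (x := y)))
    let third : Submodule K (Fin m → K) :=
      if w ⬝ᵥ x = 0 then Submodule.span K {p} else LinearMap.ker (dotProductBilin K K w)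
    set u : Fin m → K := J.σ ∘ (S *ᵥ x) with hu
    have hsu : ∀ Y, J.σ (sf J S Y x) = u ⬝ᵥ Y := fun Y => by
      rw [sf, ← dotProduct_mulVec, dotProduct, map_sum, dotProduct]
      exact Finset.sum_congr rfl fun i _ => by simp [hu, J.σσ, mul_comm]
    obtain ⟨Y, hY⟩ := CfsgLib.OreLevi.exists_notMem_list
      [LinearMap.ker (dotProductBilin K K bv), LinearMap.ker (dotProductBilin K K u), third] (by
        intro W hW
        simp only [List.mem_cons, List.not_mem_nil, or_false] at hW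
        rcases hW with rfl | rfl | rfl
        · refine hkerne _ ?_
          by_contra hc
          push Not at hc
          exact hb (dotProduct_eq_zero _ hc)
        · exact hkerne _ ⟨x, by rw [← hsu]; exact fun e => hxx (J.σ.injective (by rw [e, map_zero]))⟩
        · simp only [third]
          split_ifs with h
          · intro e
            have h1 := Submodule.finrank_le (R := K) (Submodule.span K {p})
            have h2 : Module.finrank K (Submodule.span K {p}) ≤ 1 := by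
              have := finrank_span_le_card (R := K) ({p} : Set (Fin m → K))
              simpa using this
            rw [e, finrank_top, Module.finrank_fin_fun] at h2
            omega
          · exact hkerne _ ⟨x, h⟩) (by
        have := J.card
        have h2 := J.q_two
        rw [Nat.card_eq_fintype_card, this]
        simp only [List.length_cons, List.length_nil]
        nlinarith)
    have hY1 : bv ⬝ᵥ Y ≠ 0 := hY _ List.mem_cons_self
    have hY2 : sf J S Y x ≠ 0 := fun e => hY (LinearMap.ker (dotProductBilin K K u))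
      (List.mem_cons_of_mem _ List.mem_cons_self) (LinearMap.mem_ker.2 (by
      show u ⬝ᵥ Y = 0
      rw [← hsu, e, map_zero]))
    have hY3 : Y ∉ third := hY _ (by simp)
    set h := sf J S Y Y with hh
    set b0 := bv ⬝ᵥ Y with hb0
    have hrel := sf_swap hS Y Y
    rw [← hh, ← hb0] at hrel
    have hh0 : h ≠ 0 := fun e => by
      rw [e] at hrel
      simp [hY1] at hrel
    have hσh0 : J.σ h ≠ 0 := by simpa using hh0
    have hb0' : J.σ b0 ≠ 0 := by simpa using hY1
    set ν : K := -(b0 * J.σ b0 * J.σ b0) / (h * J.σ h) with hν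
    set τ : K := (b0 * J.σ b0) ^ 2 / (h * h * J.σ h) with hτ
    have hσν : J.σ ν = -(J.σ b0 * b0 * b0) / (J.σ h * h) := by simp [hν, J.σσ]
    have hστ : J.σ τ = (J.σ b0 * b0) ^ 2 / (J.σ h * J.σ h * h) := by simp [hτ, J.σσ]
    have hτ0 : τ ≠ 0 := div_ne_zero (pow_ne_zero _ (mul_ne_zero hY1 hb0')) (mul_ne_zero (mul_ne_zero hh0 hh0) hσh0)
    refine ⟨Y, ν • bv + τ • ((J.σ ∘ Y) ᵥ* S), Or.inl ⟨ν, τ, ?_, fun e => absurd e hb, rfl⟩, ?_, Or.inr ?_⟩
    · rw [hσν, hστ, hν, hτ]
      field_simp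
      linear_combination (b0 * J.σ b0) ^ 2 * hrel
    · rw [add_dotProduct, smul_dotProduct, smul_dotProduct, ← hb0]
      show ν * b0 + τ * h = 0
      rw [hν, hτ]
      field_simp
      ring
    · have hrx : (ν • bv + τ • ((J.σ ∘ Y) ᵥ* S)) ⬝ᵥ x ≠ 0 := by
        rw [add_dotProduct, smul_dotProduct, smul_dotProduct, hbx]
        show ν * 0 + τ * sf J S Y x ≠ 0
        rw [mul_zero, zero_add]
        exact mul_ne_zero hτ0 hY2
      by_cases hwx : w ⬝ᵥ x = 0
      · simp only [third, hwx, if_true] at hY3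
        exact ⟨fun c e => hY3 (Submodule.mem_span_singleton.2 ⟨c, e.symm⟩), fun c e => hrx (by
          rw [e, smul_dotProduct, hwx, smul_zero])⟩
      · simp only [third, hwx, if_false, LinearMap.mem_ker] at hY3
        change ¬ w ⬝ᵥ Y = 0 at hY3
        refine ⟨fun c e => hY3 (by rw [e, dotProduct_smul, hwp, smul_zero]), fun c e => ?_⟩
        have hc : c * (w ⬝ᵥ Y) = 0 := by
          rw [← smul_eq_mul, ← smul_dotProduct, ← e, add_dotProduct, smul_dotProduct, smul_dotProduct, ← hb0]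
          show ν * b0 + τ * h = 0
          rw [hν, hτ]
          field_simp
          ring
        rcases mul_eq_zero.1 hc with rfl | h'
        · exact hrx (by rw [e, zero_smul, zero_dotProduct])
        · exact hY3 h'
  · push Not at hB
    let W : Submodule K (Fin m → K) :=
      { carrier := {x | bv ⬝ᵥ x = 0}, add_mem' := fun {a b} ha hb => by
          show bv ⬝ᵥ (a + b) = 0
          rw [dotProduct_add, ha, hb, add_zero]
        zero_mem' := dotProduct_zero _, smul_mem' := fun c a ha => by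
          show bv ⬝ᵥ (c • a) = 0
          rw [dotProduct_smul, ha, smul_zero] }
    -- every `x` in the kernel gives every multiple of `bv`
    have key : ∀ x, bv ⬝ᵥ x = 0 → ∀ z : K, Mv J S bv x (z • bv) := by
      intro x hx z
      obtain ⟨c, hc⟩ := eq_smul_of_ker (w := (J.σ ∘ x) ᵥ* S) hb (fun y hy =>
        sf_polar hS (fun a ha => ha) (fun a ha => hB a ha) (W := W) hx hy)
      obtain ⟨t, ht⟩ := J.exists_trace_one
      suffices h : ∃ ν τ : K, τ + J.σ τ + ν * J.σ ν = 0 ∧ ν + τ * c = z by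
        obtain ⟨ν, τ, h1, h2⟩ := h
        exact Or.inl ⟨ν, τ, h1, fun e => absurd e hb, by rw [hc, smul_smul, ← add_smul, h2]⟩
      by_cases hc0 : c = 0
      · exact ⟨z, -(t * (z * J.σ z)), by
          simp only [map_neg, map_mul, J.σσ]; linear_combination (-(z * J.σ z)) * ht, by rw [hc0]; ring⟩
      · set C := c * J.σ c with hC
        have hσC : J.σ C = C := by rw [hC, map_mul, J.σσ, mul_comm]
        have hC0 : C ≠ 0 := mul_ne_zero hc0 (by simpa using hc0)
        set a := 1 - J.σ c * z with ha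
        obtain ⟨v, hv⟩ := J.exists_norm (r := (a * J.σ a - C * (z * J.σ z)) / (C * C)) (by
          simp only [map_div₀, map_sub, map_mul, hσC, J.σσ]; ring)
        refine ⟨z - (v - a / C) * c, v - a / C, ?_, by ring⟩
        have hσa : J.σ a = 1 - c * J.σ z := by simp [ha, J.σσ]
        rw [eq_div_iff (mul_ne_zero hC0 hC0)] at hv
        simp only [map_sub, map_mul, map_div₀, hσC, hσa, J.σσ]
        rw [hσa] at hv
        field_simp
        rw [ha] at hv ⊢
        rw [hC] at hv ⊢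
        linear_combination (c * J.σ c) * hv
    by_cases hw : w ≠ 0 ∧ ∃ c : K, w = c • bv
    · obtain ⟨hw0, c, hc⟩ := hw
      have hc0 : c ≠ 0 := fun h => hw0 (by rw [hc, h, zero_smul])
      have hp : bv ⬝ᵥ p = 0 := by
        rw [hc, smul_dotProduct, smul_eq_mul, mul_eq_zero] at hwp
        exact hwp.resolve_left hc0
      exact ⟨p, (-c) • bv, key p hp _, by rw [smul_dotProduct, hp, smul_zero],
        Or.inl ⟨hw0, by rw [neg_smul, ← hc, vecMulVec_neg]⟩⟩
    · obtain ⟨z, hz, hzp⟩ := exists_ker_notMem hm hb hwp hpw hw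
      refine ⟨z, (1 : K) • bv, key z hz 1, by rw [one_smul, hz], Or.inr ⟨hzp, fun c e => ?_⟩⟩
      rw [one_smul] at e
      by_cases hw0 : w = 0
      · exact hb (by rw [e, hw0, smul_zero])
      · have hc0 : c ≠ 0 := fun h => hb (by rw [e, h, zero_smul])
        exact hw ⟨hw0, c⁻¹, by rw [e, smul_smul, inv_mul_cancel₀ hc0, one_smul]⟩

end CfsgLib.SUComm
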