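import Cfsg.Agent.Lib.SUComm.Twist
import Cfsg.Agent.Lib.OreLevi.FactorSplit

/-!
Factorisations of the Levi part for `q ≥ 3`.
-/

set_option autoImplicit false
set_option linter.unusedSectionVars false

namespace CfsgLib.SUComm

open Matrix Polynomial

universe u

variable {K : Type u} [Field K] [Fintype K] (J : Cj K)

theorem reverse_pow_K (P : K[X]) (k : ℕ) : (P ^ k).reverse = P.reverse ^ k := by
  induction k with
  | zero => rw [pow_zero, pow_zero, show (1 : K[X]) = C 1 from C_1.symm, reverse_C]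
  | succ k ih => rw [pow_succ, reverse_mul_of_domain, ih, pow_succ]

theorem reverse_map_quad {τ δ : K} (hδ : δ ≠ 0) :
    ((OreLevi.quad τ δ).map J.σ).reverse = C (J.σ δ) * X ^ 2 - C (J.σ τ) * X + 1 := by
  have e : (OreLevi.quad τ δ).map J.σ = X ^ 2 - C (J.σ τ) * X + C (J.σ δ) := by simp [OreLevi.quad]
  have hd : (X ^ 2 - C (J.σ τ) * X + C (J.σ δ) : K[X]).natDegree = 2 := by compute_degree!
  rw [e, Polynomial.reverse, hd]
  ext i
  rw [coeff_reflect]
  rcases i with _ | _ | _ | i
  · rw [revAt_le (by omega)]; simp [coeff_X, coeff_one, coeff_C, coeff_X_pow]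
  · rw [revAt_le (by omega)]; simp [coeff_X, coeff_one, coeff_C, coeff_X_pow]
  · rw [revAt_le (by omega)]; simp [coeff_X, coeff_one, coeff_C, coeff_X_pow]
  · rw [revAt_eq_self_of_lt (by omega)]; simp [coeff_X, coeff_one, coeff_C, coeff_X_pow]

theorem reverse_map_linear (l : K) : ((X - C l).map J.σ).reverse = 1 - C (J.σ l) * X := by
  rw [Polynomial.map_sub, map_X, map_C, Polynomial.reverse, natDegree_X_sub_C]
  ext i
  rw [coeff_reflect]
  rcases i with _ | _ | i
  · rw [revAt_le (by omega)]; simp [coeff_X, coeff_C, coeff_one]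
  · rw [revAt_le (by omega)]; simp [coeff_X, coeff_C, coeff_one]
  · rw [revAt_eq_self_of_lt (by omega)]; simp [coeff_X, coeff_C, coeff_one]

theorem Good.mul {P Q : K[X]} (hP : Good J P) (hQ : Good J Q) (h1 : IsCoprime P (Q.map J.σ).reverse)
    (h2 : IsCoprime Q (P.map J.σ).reverse) : Good J (P * Q) := by
  unfold Good at *
  rw [Polynomial.map_mul, reverse_mul_of_domain]
  exact IsCoprime.mul_left (hP.mul_right h1) (h2.mul_right hQ)

/-- A root of norm one spoils coprimality. -/
theorem Good.eval_ne_zero {P : K[X]} (hP : Good J P) {c : K} (hc : J.σ c * c = 1) : P.eval c ≠ 0 := fun h => by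
  obtain ⟨u, v, e⟩ := hP
  have hc0 : c ≠ 0 := fun e => by simp [e] at hc
  haveI : Invertible (J.σ c) := invertibleOfNonzero (by simpa using hc0)
  have h1 : (P.map J.σ).eval (J.σ c) = 0 := by rw [eval_map_apply, h, map_zero]
  have hr : (P.map J.σ).reverse.eval c = 0 := by
    have h2 := @eval₂_reverse_mul_pow K _ K _ (RingHom.id K) (J.σ c) _ (P.map J.σ)
    rw [eval₂_id, eval₂_id, h1, invOf_eq_inv, inv_eq_of_mul_eq_one_right hc] at h2
    exact (mul_eq_zero.1 h2).resolve_right (pow_ne_zero _ (by simpa using hc0))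
  have h3 := congrArg (Polynomial.eval c) e
  rw [eval_add, eval_mul, eval_mul, h, hr, mul_zero, mul_zero, add_zero, eval_one] at h3
  exact zero_ne_one h3

theorem coprime_linear {l : K} {G : K[X]} (h : G.eval l ≠ 0) : IsCoprime (X - C l) G :=
  (irreducible_X_sub_C l).coprime_iff_not_dvd.2 fun hd => h (dvd_iff_isRoot.1 hd)

theorem good_linear {l : K} (h : l * J.σ l ≠ 1) : Good J (X - C l) := by
  refine coprime_linear ?_
  rw [reverse_map_linear]
  simp only [eval_sub, eval_one, eval_mul, eval_C, eval_X, sub_ne_zero]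
  exact fun e => h (by rw [mul_comm]; exact e.symm)

theorem exists_good_nonroot {f : K[X]} (hf : f ≠ 0) (hd : f.natDegree + 1 < Fintype.card K) :
    ∃ x : K, x ≠ 0 ∧ f.eval x ≠ 0 := by
  classical
  by_contra hc
  push Not at hc
  have hsub : (Finset.univ : Finset K) ⊆ insert 0 f.roots.toFinset := fun x _ => by
    by_cases hx : x = 0
    · simp [hx]
    · exact Finset.mem_insert_of_mem (by rw [Multiset.mem_toFinset, mem_roots hf]; exact hc x hx)
  have := (Finset.card_le_card hsub).trans (Finset.card_insert_le _ _)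
  have := (Multiset.toFinset_card_le f.roots).trans (card_roots' f)
  rw [Finset.card_univ] at *
  omega

theorem exists_l (hq : 3 ≤ J.q) : ∃ l : K, l ≠ 0 ∧ l * J.σ l ≠ 1 ∧ J.σ l ≠ l := by
  have h1 : (X ^ (J.q + 1) - 1 : K[X]).Monic := by
    simpa using monic_X_pow_sub_C (1 : K) (show J.q + 1 ≠ 0 by omega)
  have h2 : (X ^ (J.q - 1) - 1 : K[X]).Monic := by
    simpa using monic_X_pow_sub_C (1 : K) (show J.q - 1 ≠ 0 by omega)
  have hd : ((X ^ (J.q + 1) - 1) * (X ^ (J.q - 1) - 1) : K[X]).natDegree + 1 < Fintype.card K := by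
    rw [h1.natDegree_mul h2, ← C_1, natDegree_X_pow_sub_C, natDegree_X_pow_sub_C, J.card]
    have : 3 * J.q ≤ J.q * J.q := Nat.mul_le_mul_right _ hq
    rw [sq]; omega
  obtain ⟨x, hx, hx'⟩ := exists_good_nonroot (h1.mul h2).ne_zero hd
  simp only [eval_mul, mul_ne_zero_iff, eval_sub, eval_pow, eval_X, eval_one, sub_ne_zero] at hx'
  refine ⟨x, hx, fun h => hx'.1 (by rw [pow_succ', ← J.σ_eq, h]), fun h => hx'.2 ?_⟩
  refine mul_right_cancel₀ hx ?_
  rw [← pow_succ, show J.q - 1 + 1 = J.q by omega, ← J.σ_eq, h, one_mul]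

theorem exists_tau (hq : 3 ≤ J.q) {δ : K} (hδ : δ ≠ 0) :
    ∃ τ : K, τ ≠ 0 ∧ OreLevi.NoRoot τ δ ∧ J.σ τ ≠ J.σ δ * τ := by
  classical
  by_contra hcon
  push Not at hcon
  let f : K → K := fun x => x + δ / x
  set F₀ := (Finset.univ.erase (0 : K)).filter (fun x => x * x = δ) with hF
  set S := (Finset.univ.erase (0 : K)).filter (fun x => ¬ x * x = δ) with hS
  have hne : (X ^ J.q - C (J.σ δ) * X : K[X]) ≠ 0 := fun e => by
    have := congrArg (fun p => p.coeff J.q) e
    simp [coeff_X, show ¬ 1 = J.q by omega] at this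
  have hsub : (Finset.univ : Finset K) ⊆ F₀.image f ∪ S.image f ∪ (X ^ J.q - C (J.σ δ) * X : K[X]).roots.toFinset :=
    fun τ _ => by
    by_cases hbad : J.σ τ = J.σ δ * τ
    · refine Finset.mem_union_right _ ?_
      rw [Multiset.mem_toFinset, mem_roots hne]
      simp [← J.σ_eq, hbad]
    have hτ : τ ≠ 0 := fun e => hbad (by simp [e])
    have hnr : ¬ OreLevi.NoRoot τ δ := fun h => hbad (hcon τ hτ h)
    simp only [OreLevi.NoRoot, not_forall, not_not] at hnr
    obtain ⟨x, hx⟩ := hnr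
    have hx0 : x ≠ 0 := fun e => hδ (by simpa [e] using hx)
    have hfx : f x = τ := by
      show x + δ / x = τ
      field_simp
      linear_combination hx
    refine Finset.mem_union_left _ ?_
    by_cases h2 : x * x = δ
    · exact Finset.mem_union_left _ (Finset.mem_image.2 ⟨x, by simp [hF, hx0, h2], hfx⟩)
    · exact Finset.mem_union_right _ (Finset.mem_image.2 ⟨x, by simp [hS, hx0, h2], hfx⟩)
  have h2 : (S.image f).card * 2 ≤ S.card := by
    rw [Finset.card_eq_sum_card_image f S]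
    have hfib : ∀ b ∈ S.image f, 2 ≤ (S.filter fun x => f x = b).card := by
      intro b hb
      obtain ⟨x, hx, rfl⟩ := Finset.mem_image.1 hb
      simp only [hS, Finset.mem_filter, Finset.mem_erase, Finset.mem_univ, and_true] at hx
      obtain ⟨hx0, hxδ⟩ := hx
      have hy : δ / x ≠ x := fun e => hxδ (by rw [div_eq_iff hx0] at e; exact e.symm)
      refine le_trans (le_of_eq (Finset.card_pair hy).symm) (Finset.card_le_card fun z hz => ?_)
      simp only [Finset.mem_insert, Finset.mem_singleton] at hz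
      rcases hz with rfl | rfl
      · simp only [hS, Finset.mem_filter, Finset.mem_erase, Finset.mem_univ, and_true, f]
        refine ⟨⟨div_ne_zero hδ hx0, fun e => hxδ ?_⟩, ?_⟩
        · field_simp at e
          first | linear_combination e | linear_combination -e | exact e | exact e.symm
        · field_simp; ring
      · simp [hS, hx0, hxδ]
    have := Finset.sum_le_sum hfib
    rwa [Finset.sum_const, smul_eq_mul] at this
  have hF2 : F₀.card ≤ 2 := by
    have hne2 : (X ^ 2 - C δ : K[X]) ≠ 0 := (monic_X_pow_sub_C δ (by norm_num)).ne_zero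
    refine le_trans (Finset.card_le_card (t := (X ^ 2 - C δ : K[X]).roots.toFinset) fun x hx => ?_) ?_
    · simp only [hF, Finset.mem_filter] at hx
      rw [Multiset.mem_toFinset, mem_roots hne2]
      simp [sq, hx.2]
    · exact (Multiset.toFinset_card_le _).trans ((card_roots' _).trans (by rw [natDegree_X_pow_sub_C]))
  have hsplit : F₀.card + S.card = Fintype.card K - 1 := by
    rw [hF, hS, Finset.card_filter_add_card_filter_not, Finset.card_erase_of_mem (Finset.mem_univ _), Finset.card_univ]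
  have h3 : (X ^ J.q - C (J.σ δ) * X : K[X]).roots.toFinset.card ≤ J.q := by
    refine (Multiset.toFinset_card_le _).trans ((card_roots' _).trans ?_)
    refine (natDegree_sub_le _ _).trans ?_
    rw [natDegree_X_pow]
    exact max_le le_rfl ((natDegree_C_mul_le _ _).trans (by rw [natDegree_X]; omega))
  have h4 := ((Finset.card_le_card hsub).trans (Finset.card_union_le _ _)).trans
    (Nat.add_le_add_right (Finset.card_union_le _ _) _)
  have h5 : (F₀.image f).card ≤ F₀.card := Finset.card_image_le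
  rw [Finset.card_univ, J.card] at *
  have : 3 * J.q ≤ J.q ^ 2 := by rw [sq]; exact Nat.mul_le_mul_right _ hq
  omega

/-- From units. -/
theorem fac_of_units {m k : ℕ} {A : Matrix (Fin m) (Fin m) K} {s z : GL (Fin m) K} {P : K[X]}
    (hA : ((s * z * s⁻¹ * z⁻¹ : GL (Fin m) K) : Matrix (Fin m) (Fin m) K) = A)
    (hs : Matrix.det (s : Matrix (Fin m) (Fin m) K) = 1) (hz : Matrix.det (z : Matrix (Fin m) (Fin m) K) = 1)
    (hk : aeval (s : Matrix (Fin m) (Fin m) K) P = 0) (hP : Good J P) : Fac J k A := by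
  have hsi : ((s⁻¹ : GL (Fin m) K) : Matrix (Fin m) (Fin m) K).det = 1 := by
    have h := congrArg Matrix.det (s.mul_inv)
    rwa [det_mul, hs, one_mul, det_one] at h
  have hzi : ((z⁻¹ : GL (Fin m) K) : Matrix (Fin m) (Fin m) K).det = 1 := by
    have h := congrArg Matrix.det (z.mul_inv)
    rwa [det_mul, hz, one_mul, det_one] at h
  refine ⟨_, _, _, _, P, 1, s.mul_inv, z.mul_inv, ?_, hk, hP, hP.eval_ne_zero J (by simp), by simp, ?_, ?_⟩
  · rw [← hA, Units.val_mul, Units.val_mul, Units.val_mul]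
  · rw [hs, hsi, one_pow, map_one, one_mul, one_mul]
  · rw [hz, hzi, map_one, one_mul]

/-- Large rank. -/
theorem fac_three (hq : 3 ≤ J.q) {m k : ℕ} (hm : 3 ≤ m) {A : Matrix (Fin m) (Fin m) K} (hdet : A.det = 1)
    (hA : ∀ e : K, A ≠ e • 1) : Fac J k A := by
  obtain ⟨l, hl0, hl1, -⟩ := exists_l J hq
  set δ := (l ^ (m - 2))⁻¹ with hδdef
  have hδ : δ ≠ 0 := inv_ne_zero (pow_ne_zero _ hl0)
  obtain ⟨τ, hτ0, hnr, hτσ⟩ := exists_tau J hq hδ
  have hQ : 4 ≤ Nat.card K := by
    rw [Nat.card_eq_fintype_card, J.card]; nlinarith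
  obtain ⟨s, z, h1, h2, h3, h4⟩ := OreLevi.exists_comm_factor hQ hm hdet hA hl0 hτ0 hnr (d := 1) one_ne_zero
  rw [mul_inv_cancel₀ (pow_ne_zero _ hl0)] at h2
  refine fac_of_units J h1 h2 h3 h4 ?_
  have hσδ : J.σ δ ≠ 0 := by simpa using hδ
  have hqq : Good J (OreLevi.quad τ δ) := hnr.irreducible.coprime_iff_not_dvd.2 fun hd => by
    rw [reverse_map_quad J hδ] at hd
    have h' : OreLevi.quad τ δ ∣ C (J.σ δ * τ - J.σ τ) * X + C (1 - J.σ δ * δ) := by
      have := dvd_sub hd (dvd_mul_left (OreLevi.quad τ δ) (C (J.σ δ)))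
      convert this using 1
      simp [OreLevi.quad]; ring
    have hz : (C (J.σ δ * τ - J.σ τ) * X + C (1 - J.σ δ * δ) : K[X]) = 0 := by
      by_contra hne
      have := natDegree_le_of_dvd h' hne
      have hle : (C (J.σ δ * τ - J.σ τ) * X + C (1 - J.σ δ * δ) : K[X]).natDegree ≤ 1 := by compute_degree
      rw [OreLevi.natDegree_quad] at this
      omega
    have := congrArg (fun p => p.coeff 1) hz
    simp [coeff_one] at this
    exact hτσ (sub_eq_zero.1 this).symm
  have hlq : IsCoprime (X - C l) ((OreLevi.quad τ δ).map J.σ).reverse := by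
    refine coprime_linear ?_
    rw [reverse_map_quad J hδ]
    simp only [eval_add, eval_sub, eval_mul, eval_C, eval_pow, eval_X, eval_one]
    intro h
    have h' := congrArg J.σ h
    simp only [map_add, map_sub, map_mul, map_pow, map_one, map_zero, J.σσ] at h'
    have hl' : J.σ l ≠ 0 := by simpa using hl0
    refine hnr (J.σ l)⁻¹ ?_
    field_simp
    linear_combination h'
  have hql : IsCoprime (OreLevi.quad τ δ) ((X - C l).map J.σ).reverse :=
    hnr.irreducible.coprime_iff_not_dvd.2 fun hd => by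
      have hne : ((X - C l).map J.σ).reverse ≠ 0 := fun e => by
        have := congrArg (fun p => p.coeff 0) ((reverse_map_linear J l).symm.trans e)
        simp at this
      have := natDegree_le_of_dvd hd hne
      rw [OreLevi.natDegree_quad] at this
      have h' := reverse_natDegree_le ((X - C l).map J.σ)
      have h'' := natDegree_map_le (f := J.σ) (p := X - C l)
      rw [natDegree_X_sub_C] at h''
      omega
  have hg : Good J ((X - C l) ^ (m - 2)) := by
    unfold Good
    rw [Polynomial.map_pow, reverse_pow_K]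
    exact (good_linear J hl1).pow
  refine hg.mul J hqq hlq.pow_left ?_
  rw [Polynomial.map_pow, reverse_pow_K]
  exact hql.pow_right

/-- Rank two. -/
theorem fac_two (hq : 3 ≤ J.q) {k : ℕ} {A : Matrix (Fin 2) (Fin 2) K} (hdet : A.det = 1)
    (hA : ∀ e : K, A ≠ e • 1) : Fac J k A := by
  obtain ⟨l, hl0, hl1, hl2⟩ := exists_l J hq
  set L := l⁻¹ with hL
  have hσl : J.σ l ≠ 0 := by simpa using hl0
  have hlL : l * L = 1 := mul_inv_cancel₀ hl0
  have hne : l - L ≠ 0 := fun e => by
    have h2 : l * l = 1 := by linear_combination l * e + hlL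
    rcases mul_self_eq_one_iff.1 h2 with h | h <;> exact hl2 (by simp [h])
  rw [det_fin_two] at hdet
  set T := A 0 0 + A 1 1 with hT
  -- a basis `v, A v`
  obtain ⟨x, y, hxy⟩ : ∃ x y : K, x * (A 1 0 * x + A 1 1 * y) - y * (A 0 0 * x + A 0 1 * y) ≠ 0 := by
    by_contra hc
    push Not at hc
    have h1 := hc 1 0
    have h2 := hc 0 1
    have h3 := hc 1 1
    simp at h1 h2
    refine hA (A 0 0) ?_
    ext i j
    fin_cases i <;> fin_cases j <;> simp [h1, h2]
    linear_combination h3 - h1 + h2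
  set P₀ : Matrix (Fin 2) (Fin 2) K := !![x, A 0 0 * x + A 0 1 * y; y, A 1 0 * x + A 1 1 * y] with hP0
  have hP0d : P₀.det ≠ 0 := by rw [hP0, det_fin_two_of]; intro e; exact hxy (by linear_combination e)
  set Q₀ := P₀⁻¹
  have hPQ : P₀ * Q₀ = 1 := Matrix.mul_nonsing_inv _ (isUnit_iff_ne_zero.2 hP0d)
  have hQP : Q₀ * P₀ = 1 := Matrix.nonsing_inv_mul _ (isUnit_iff_ne_zero.2 hP0d)
  have hAP : A * P₀ = P₀ * !![0, -1; 1, T] := by
    ext i j
    fin_cases i <;> fin_cases j <;> simp [hP0, hT, Matrix.mul_apply, Fin.sum_univ_two]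
    · linear_combination (-x) * hdet
    · linear_combination (-y) * hdet
  set b := l * T - (l + L) with hb
  set s₀ : Matrix (Fin 2) (Fin 2) K := !![l, b; 0, L] with hs0
  set si₀ : Matrix (Fin 2) (Fin 2) K := !![L, -b; 0, l] with hsi0
  set z₀ : Matrix (Fin 2) (Fin 2) K :=
    !![L - l * T, (-(1 - T) + b * (L - l * T)) / (l - L); l, (-1 + b * l) / (l - L)] with hz0
  have hz0d : z₀.det = 1 := by
    rw [hz0, det_fin_two_of, hb]
    field_simp
    ring
  have hkey : si₀ * !![0, -1; 1, T] * z₀ = z₀ * si₀ := by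
    ext i j
    fin_cases i <;> fin_cases j <;> simp [hsi0, hz0, hb, Matrix.mul_apply, Fin.sum_univ_two]
    all_goals field_simp
    all_goals ring
  have hs1 : s₀ * si₀ = 1 := by
    ext i j
    fin_cases i <;> fin_cases j <;> simp [hs0, hsi0, Matrix.mul_apply, Fin.sum_univ_two, hlL, mul_comm L l] <;> ring
  set zi₀ := z₀⁻¹
  have hz1 : z₀ * zi₀ = 1 := Matrix.mul_nonsing_inv _ (by rw [hz0d]; exact isUnit_one)
  have hC : !![0, -1; 1, T] = s₀ * z₀ * si₀ * zi₀ := by
    calc (!![0, -1; 1, T] : Matrix (Fin 2) (Fin 2) K) = s₀ * (si₀ * !![0, -1; 1, T] * z₀) * zi₀ := by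
          simp only [← Matrix.mul_assoc]
          rw [hs1, Matrix.one_mul, Matrix.mul_assoc _ z₀, hz1, Matrix.mul_one]
      _ = _ := by rw [hkey]; simp only [Matrix.mul_assoc]
  have hconj : ∀ M N : Matrix (Fin 2) (Fin 2) K, P₀ * M * Q₀ * (P₀ * N * Q₀) = P₀ * (M * N) * Q₀ := fun M N => by
    calc P₀ * M * Q₀ * (P₀ * N * Q₀) = P₀ * M * (Q₀ * P₀) * N * Q₀ := by simp only [Matrix.mul_assoc]
      _ = _ := by rw [hQP, Matrix.mul_one]; simp only [Matrix.mul_assoc]
  refine fac_of_units J (P := (X - C l) * (X - C L))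
    (s := ⟨P₀ * s₀ * Q₀, P₀ * si₀ * Q₀, by rw [hconj, hs1, Matrix.mul_one, hPQ],
      by rw [hconj, mul_eq_one_comm.1 hs1, Matrix.mul_one, hPQ]⟩)
    (z := ⟨P₀ * z₀ * Q₀, P₀ * zi₀ * Q₀, by rw [hconj, hz1, Matrix.mul_one, hPQ],
      by rw [hconj, mul_eq_one_comm.1 hz1, Matrix.mul_one, hPQ]⟩) ?_ ?_ ?_ ?_ ?_
  · show P₀ * s₀ * Q₀ * (P₀ * z₀ * Q₀) * (P₀ * si₀ * Q₀) * (P₀ * zi₀ * Q₀) = A
    rw [hconj, hconj, hconj, ← hC, ← hAP, Matrix.mul_assoc, hPQ, Matrix.mul_one]
  · show (P₀ * s₀ * Q₀).det = 1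
    rw [det_conj hQP hPQ, hs0, det_fin_two_of, mul_zero, sub_zero, hlL]
  · show (P₀ * z₀ * Q₀).det = 1
    rw [det_conj hQP hPQ, hz0d]
  · show aeval (P₀ * s₀ * Q₀) _ = 0
    rw [map_mul, map_sub, map_sub, aeval_X, aeval_C, aeval_C, Algebra.algebraMap_eq_smul_one,
      Algebra.algebraMap_eq_smul_one]
    have e : ∀ c : K, P₀ * s₀ * Q₀ - c • 1 = P₀ * (s₀ - c • 1) * Q₀ := fun c => by
      rw [Matrix.mul_sub, Matrix.sub_mul, Matrix.mul_smul, Matrix.mul_one, Matrix.smul_mul, hPQ]
    rw [e, e, hconj]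
    have : (s₀ - l • 1) * (s₀ - L • 1) = 0 := by
      ext i j
      fin_cases i <;> fin_cases j <;> simp [hs0, Matrix.mul_apply, Fin.sum_univ_two]
    rw [this, Matrix.mul_zero, Matrix.zero_mul]
  · have hLσ : J.σ L = (J.σ l)⁻¹ := by rw [hL, map_inv₀]
    refine Good.mul J (good_linear J hl1) (good_linear J ?_) ?_ ?_
    · intro h
      apply hl1
      rw [hLσ, hL] at h
      field_simp at h
      exact h.symm
    · refine coprime_linear ?_
      rw [reverse_map_linear]
      simp only [eval_sub, eval_mul, eval_C, eval_X, eval_one, sub_ne_zero, hLσ]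
      intro h
      field_simp at h
      exact hl2 h
    · refine coprime_linear ?_
      rw [reverse_map_linear]
      simp only [eval_sub, eval_mul, eval_C, eval_X, eval_one, sub_ne_zero]
      intro h
      rw [hL] at h
      field_simp at h
      exact hl2 h.symm

/-- Rank one with an odd middle. -/
theorem fac_one (hq : 3 ≤ J.q) : Fac J 1 (1 : Matrix (Fin 1) (Fin 1) K) := by
  have h1 : (X ^ (J.q + 1) - 1 : K[X]).Monic := by
    simpa using monic_X_pow_sub_C (1 : K) (show J.q + 1 ≠ 0 by omega)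
  have h2 : (X ^ (J.q - 2) - 1 : K[X]).Monic := by
    simpa using monic_X_pow_sub_C (1 : K) (show J.q - 2 ≠ 0 by omega)
  have hd : ((X ^ (J.q + 1) - 1) * (X ^ (J.q - 2) - 1) : K[X]).natDegree + 1 < Fintype.card K := by
    rw [h1.natDegree_mul h2, ← C_1, natDegree_X_pow_sub_C, natDegree_X_pow_sub_C, J.card]
    have : 3 * J.q ≤ J.q * J.q := Nat.mul_le_mul_right _ hq
    rw [sq]; omega
  obtain ⟨x, hx, hx'⟩ := exists_good_nonroot (h1.mul h2).ne_zero hd
  simp only [eval_mul, mul_ne_zero_iff, eval_sub, eval_pow, eval_X, eval_one, sub_ne_zero] at hx'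
  have hxn : x * J.σ x ≠ 1 := fun h => hx'.1 (by rw [pow_succ', ← J.σ_eq, h])
  have hσx : J.σ x ≠ 0 := by simpa using hx
  have hxc : J.σ x / x ≠ x := fun h => hx'.2 (by
    rw [div_eq_iff hx] at h
    refine mul_right_cancel₀ (mul_ne_zero hx hx) ?_
    rw [← h, one_mul, h, ← sq, ← pow_add, show J.q - 2 + 2 = J.q by omega, ← J.σ_eq, h, sq])
  refine ⟨x • 1, x⁻¹ • 1, 1, 1, X - C x, J.σ x / x, ?_, one_mul _, ?_, ?_, good_linear J hxn, ?_, ?_, ?_, by simp⟩
  · rw [smul_mul_assoc, one_mul, smul_smul, mul_inv_cancel₀ hx, one_smul]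
  · rw [mul_one, mul_one, smul_mul_assoc, one_mul, smul_smul, mul_inv_cancel₀ hx, one_smul]
  · rw [map_sub, aeval_X, aeval_C, Algebra.algebraMap_eq_smul_one, sub_self]
  · simpa [sub_eq_zero] using hxc
  · rw [map_div₀, J.σσ]; field_simp
  · simp only [det_smul, det_one, Fintype.card_fin, pow_one, mul_one, map_inv₀]
    field_simp

end CfsgLib.SUComm
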