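import Cfsg.Agent.Lib.SUComm.Normal

/-!
The standard form is isometric to the split model, and scalars of determinant one are commutators.
-/

set_option autoImplicit false
set_option linter.unusedSectionVars false

namespace CfsgLib.SUComm

open Matrix Polynomial

universe u

variable {K : Type u} [Field K] [Fintype K] (J : Cj K)

/-- The model is isometric to the standard form. -/
theorem exists_std (m k : ℕ) : ∃ Y Z : Matrix (Idx m k) (Idx m k) K, Y * Z = 1 ∧ Z * Y = 1 ∧
    sad J Y * 1 * Y = Hm ∧ sad J Z * Hm * Z = 1 := by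
  obtain ⟨t, ht⟩ := J.exists_trace_one
  obtain ⟨α, hα⟩ := J.exists_norm (r := (-1 : K)) (by simp)
  set Y : Matrix (Idx m k) (Idx m k) K := mk 1 0 (t • 1) 0 1 0 (α • 1) 0 ((-(J.σ t * α)) • 1) with hY
  have hY1 : sad J Y * Y = Hm := by
    have hα' : J.σ α * α = -1 := by rw [mul_comm]; exact hα
    simp only [hY, Hm, sad_mk, mk_mul, sad_smul, sad_one, sad_zero, Matrix.smul_mul, Matrix.one_mul, Matrix.mul_smul,
      Matrix.mul_one, smul_smul, Matrix.mul_zero, Matrix.zero_mul, add_zero, zero_add, smul_zero, mk_inj]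
    simp only [map_neg, map_mul, J.σσ, mul_one, true_and, and_true]
    have e : ∀ a b : K, a • (1 : Matrix (Fin m) (Fin m) K) + b • 1 = (a + b) • 1 := fun a b => (add_smul _ _ _).symm
    refine ⟨?_, ?_, ?_, ?_⟩
    · rw [hα, neg_smul, one_smul, add_neg_cancel]
    · rw [e, show t + -(J.σ t * α) * J.σ α = 1 by linear_combination ht - J.σ t * hα, one_smul]
    · rw [e, show J.σ t + α * -(t * J.σ α) = 1 by linear_combination ht - t * hα, one_smul]
    · rw [e, show t * J.σ t + -(J.σ t * α) * -(t * J.σ α) = 0 by linear_combination t * J.σ t * hα, zero_smul]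
  have hZY : Hm * sad J Y * Y = 1 := by rw [Matrix.mul_assoc, hY1, Hm_sq]
  have hYZ : Y * (Hm * sad J Y) = 1 := mul_eq_one_comm.1 hZY
  refine ⟨Y, Hm * sad J Y, hYZ, hZY, by rw [Matrix.mul_one, hY1], ?_⟩
  calc sad J (Hm * sad J Y) * Hm * (Hm * sad J Y)
      = sad J (Hm * sad J Y) * (sad J Y * Y) * (Hm * sad J Y) := by rw [hY1]
    _ = sad J (Y * (Hm * sad J Y)) * (Y * (Hm * sad J Y)) := by rw [sad_mul J Y]; simp only [Matrix.mul_assoc]
    _ = 1 := by rw [hYZ, sad_one, Matrix.one_mul]

theorem IsC.relabel {ι μ : Type*} [Fintype ι] [DecidableEq ι] [Fintype μ] [DecidableEq μ] {H g : Matrix ι ι K}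
    (e : μ ≃ ι) (h : IsC J H g) : IsC J (H.submatrix e e) (g.submatrix e e) := by
  obtain ⟨a, b, h1, h2, h3, h4, h5⟩ := h
  have hs : ∀ x : Matrix ι ι K, Iso J H x → Iso J (H.submatrix e e) (x.submatrix e e) := fun x hx => by
    show sad J (x.submatrix e e) * _ * _ = _
    rw [show sad J (x.submatrix e e) = (sad J x).submatrix e e from rfl, submatrix_mul_equiv, submatrix_mul_equiv,
      show sad J x * H * x = H from hx]
  exact ⟨_, _, hs a h1, hs b h2, by rw [det_submatrix_equiv_self, h3], by rw [det_submatrix_equiv_self, h4],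
    by rw [submatrix_mul_equiv, submatrix_mul_equiv, submatrix_mul_equiv, h5]⟩

section Clock

variable {d : ℕ} [NeZero d] {e : K}

/-- The clock. -/
def clock (e : K) : Matrix (Fin d) (Fin d) K := Matrix.diagonal fun i => e ^ (i : ℕ)

/-- The shift. -/
def shift : Matrix (Fin d) (Fin d) K := Equiv.Perm.permMatrix K (Equiv.addRight (1 : Fin d))

theorem pow_val_add (he : e ^ d = 1) (i j : Fin d) : e ^ ((i + j : Fin d) : ℕ) = e ^ (i : ℕ) * e ^ (j : ℕ) := by
  rw [Fin.val_add, ← pow_add]
  exact (pow_eq_pow_mod _ he).symm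

theorem pow_val_one (he : e ^ d = 1) : e ^ ((1 : Fin d) : ℕ) = e := by
  rw [Fin.val_one', ← pow_eq_pow_mod 1 he, pow_one]

theorem clock_shift (he : e ^ d = 1) : e • (clock e * shift) = shift * (clock e : Matrix (Fin d) (Fin d) K) := by
  ext i j
  rw [clock, Matrix.smul_apply, Matrix.diagonal_mul, Matrix.mul_diagonal]
  simp only [shift, Equiv.Perm.permMatrix, PEquiv.toMatrix_apply, Equiv.toPEquiv_apply, Option.mem_def,
    Option.some.injEq, Equiv.coe_addRight, smul_eq_mul, mul_ite, mul_one, mul_zero, ite_mul, one_mul, zero_mul]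
  split_ifs with h
  · rw [← h, pow_val_add he, pow_val_one he, mul_comm]
  · rfl

theorem sad_permMatrix {ι : Type*} [DecidableEq ι] (π : Equiv.Perm ι) :
    sad J (Equiv.Perm.permMatrix K π) = Equiv.Perm.permMatrix K π⁻¹ := by
  ext i j
  simp only [sad, transpose_apply, map_apply, Equiv.Perm.permMatrix, PEquiv.toMatrix_apply, Equiv.toPEquiv_apply,
    Option.mem_def, Option.some.injEq, apply_ite J.σ, map_one, map_zero]
  exact if_congr ⟨fun h => by rw [← h]; simp, fun h => by rw [← h]; simp⟩ rfl rfl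

theorem det_clock_shift (he : orderOf e = d) :
    (clock e : Matrix (Fin d) (Fin d) K).det = (-1) ^ (d - 1) ∧ (shift : Matrix (Fin d) (Fin d) K).det = (-1) ^ (d - 1) := by
  have hed : e ^ d = 1 := he ▸ pow_orderOf_eq_one e
  constructor
  · rw [clock, det_diagonal, Finset.prod_pow_eq_pow_sum, Fin.sum_univ_eq_sum_range (fun i => i), Finset.sum_range_id]
    rcases Nat.even_or_odd d with ⟨h, hh⟩ | ⟨h, hh⟩
    · have h0 : h ≠ 0 := fun z => NeZero.ne d (by omega)
      have hsq : e ^ h * e ^ h = 1 := by rw [← pow_add, ← hh, hed]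
      have hne : e ^ h ≠ 1 := pow_ne_one_of_lt_orderOf h0 (by omega)
      rw [show d * (d - 1) / 2 = h * (d - 1) by
          rw [show d * (d - 1) = h * (d - 1) * 2 by rw [hh]; ring, Nat.mul_div_cancel _ two_pos],
        pow_mul, (mul_self_eq_one_iff.1 hsq).resolve_left hne]
    · rw [show d * (d - 1) / 2 = d * h by
          rw [show d - 1 = h * 2 by omega, ← mul_assoc, Nat.mul_div_cancel _ two_pos],
        pow_mul, hed, one_pow, show d - 1 = 2 * h by omega, pow_mul, neg_one_sq, one_pow]
  · obtain ⟨c, rfl⟩ : ∃ c, d = c + 1 := ⟨d - 1, by have := NeZero.pos d; omega⟩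
    rw [shift, Matrix.det_permutation, show Equiv.addRight (1 : Fin (c + 1)) = finRotate (c + 1) from
      Equiv.ext fun i => (finRotate_succ_apply i).symm, sign_finRotate]
    simp

/-- The split form on one block is a commutator setting for the scalar. -/
theorem isC_special (he : orderOf e = d) (hen : J.σ e * e = 1) {h : ℕ} (hd : d = h + h) {ω : K}
    (hω : ω ^ d = -1) (hωn : J.σ ω * ω = -1) : IsC J (1 : Matrix (Fin d) (Fin d) K) (e • 1) := by
  have h0 : h ≠ 0 := fun z => NeZero.ne d (by omega)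
  have hed : e ^ d = 1 := he ▸ pow_orderOf_eq_one e
  have hsq : e ^ h * e ^ h = 1 := by rw [← pow_add, ← hd, hed]
  have heh : e ^ h = -1 := (mul_self_eq_one_iff.1 hsq).resolve_left (pow_ne_one_of_lt_orderOf h0 (by omega))
  set h' : Fin d := ⟨h, by omega⟩ with hh'
  have hhh : h' + h' = 0 := Fin.ext (by rw [Fin.val_add, hh']; simp [← hd])
  set τ : Equiv.Perm (Fin d) := Equiv.addRight h'
  set H : Matrix (Fin d) (Fin d) K := Equiv.Perm.permMatrix K τ
  obtain ⟨r, hr0, hr⟩ := J.exists_skew
  have hh0 : (0 : Fin d) ≠ h' := fun z => h0 (by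
    have := congrArg Fin.val z; simpa [hh'] using this.symm)
  set y : Fin d → K := fun i => if i = 0 then r else if i = h' then -r⁻¹ else 1
  have hyy : ∀ i, J.σ (y i) * y (i + h') = 1 := fun i => by
    by_cases h1 : i = 0
    · subst h1
      simp only [y, zero_add, if_neg hh0.symm, if_true]
      rw [hr, neg_mul_neg, mul_inv_cancel₀ hr0]
    · by_cases h2 : i = h'
      · subst h2
        simp only [y, hhh, if_neg h1, if_true, map_neg, map_inv₀, hr]
        rw [inv_neg, neg_neg, inv_mul_cancel₀ hr0]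
      · have h3 : i + h' ≠ 0 := fun z => h2 (by
          have := congrArg (· + h') z
          simpa [add_assoc, hhh] using this)
        have h4 : i + h' ≠ h' := fun z => h1 (by simpa using z)
        simp [y, h1, h2, h3, h4]
  have hxx : ∀ i : Fin d, J.σ (ω * e ^ (i : ℕ)) * (ω * e ^ ((i + h' : Fin d) : ℕ)) = 1 := fun i => by
    rw [pow_val_add hed, show ((h' : Fin d) : ℕ) = h from rfl, heh, map_mul, map_pow]
    have := congrArg (· ^ (i : ℕ)) hen
    simp only [mul_pow, one_pow] at this
    linear_combination (-(J.σ e ^ (i : ℕ) * e ^ (i : ℕ))) * hωn + this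
  have hdiag : ∀ x : Fin d → K, (∀ i, J.σ (x i) * x (i + h') = 1) → Iso J H (Matrix.diagonal x) := fun x hx => by
    show sad J (Matrix.diagonal x) * H * Matrix.diagonal x = H
    rw [sad, diagonal_map (map_zero J.σ), diagonal_transpose]
    ext i j
    rw [Matrix.mul_diagonal, Matrix.diagonal_mul]
    simp only [H, τ, Equiv.Perm.permMatrix, PEquiv.toMatrix_apply, Equiv.toPEquiv_apply, Option.mem_def,
      Option.some.injEq, Equiv.coe_addRight, mul_ite, mul_one, mul_zero, ite_mul, zero_mul]
    split_ifs with hij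
    · rw [← hij]; exact hx i
    · rfl
  have hQ : Iso J H (shift : Matrix (Fin d) (Fin d) K) := by
    show sad J _ * H * _ = H
    rw [shift, sad_permMatrix, ← Matrix.permMatrix_mul, ← Matrix.permMatrix_mul]
    congr 1
    ext i
    simp [τ, add_comm, add_left_comm]
  obtain ⟨hdc, hds⟩ := det_clock_shift he
  have hodd : ((-1 : K)) ^ (d - 1) = -1 := Odd.neg_one_pow ⟨h - 1, by omega⟩
  have hdy : (Matrix.diagonal y).det = -1 := by
    rw [det_diagonal, Fintype.prod_eq_mul (0 : Fin d) h' hh0 (fun i hi => by simp [y, hi.1, hi.2])]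
    simp [y, hh0.symm, hr0]
  have hIC : IsC J H (e • 1) := by
    refine ⟨shift * Matrix.diagonal y, ω • clock e, hQ.mul J (hdiag y hyy), ?_, ?_, ?_, ?_⟩
    · rw [clock, ← Matrix.diagonal_smul]
      exact hdiag _ hxx
    · rw [det_mul, hds, hdy, hodd, neg_mul_neg, one_mul]
    · rw [det_smul, Fintype.card_fin, hω, hdc, hodd, neg_mul_neg, one_mul]
    · rw [Matrix.smul_mul, Matrix.one_mul, Matrix.smul_mul, ← Matrix.mul_assoc, Matrix.mul_smul, smul_comm,
        ← Matrix.smul_mul, clock_shift hed, Matrix.mul_assoc, Matrix.mul_assoc, clock,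
        Matrix.diagonal_mul_diagonal, Matrix.diagonal_mul_diagonal]
      simp only [mul_comm (y _)]
  -- back to the standard form
  subst hd
  let f : Fin (h + h) ≃ Idx h 0 :=
    finSumFinEquiv.symm.trans (Equiv.sumCongr (Equiv.refl _) (Equiv.emptySum (Fin 0) (Fin h)).symm)
  have hHf : (Hm : Matrix (Idx h 0) (Idx h 0) K).submatrix f f = H := by
    ext i j
    obtain ⟨i, rfl⟩ := f.symm.surjective i
    obtain ⟨j, rfl⟩ := f.symm.surjective j
    simp only [Matrix.submatrix_apply, Equiv.apply_symm_apply, H, τ, Equiv.Perm.permMatrix, PEquiv.toMatrix_apply,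
      Equiv.toPEquiv_apply, Option.mem_def, Option.some.injEq, Equiv.coe_addRight]
    rcases i with i | i | i
    rotate_left
    · exact i.elim0
    all_goals rcases j with j | j | j
    all_goals first | exact j.elim0 | skip
    all_goals simp [f, hh', Hm, mk, Fin.ext_iff, Fin.val_add, Matrix.one_apply]
    all_goals have := i.isLt; have := j.isLt
    all_goals first
      | rw [Nat.mod_eq_of_lt (show (i : ℕ) + h < h + h by omega)]
      | rw [show (i : ℕ) + h + h = i + (h + h) by omega, Nat.add_mod_right, Nat.mod_eq_of_lt (show (i : ℕ) < h + h by omega)]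
      | rw [show h + (i : ℕ) + h = i + (h + h) by omega, Nat.add_mod_right, Nat.mod_eq_of_lt (show (i : ℕ) < h + h by omega)]
    all_goals first | omega | (split_ifs <;> first | rfl | omega)
  have h1 := hIC.relabel J f.symm
  rw [← hHf] at h1
  simp only [submatrix_submatrix, Equiv.self_comp_symm, submatrix_id_id, Matrix.submatrix_smul,
    Matrix.submatrix_one_equiv, Pi.smul_apply] at h1
  obtain ⟨Y, Z, hYZ, hZY, -, hZ⟩ := exists_std J h 0
  have h2 := h1.transport J (Y := Z) (Z := Y) hZY hYZ hZ rfl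
  rw [Matrix.mul_smul, Matrix.mul_one, Matrix.smul_mul, hYZ] at h2
  simpa [Matrix.submatrix_smul] using h2.relabel J f

end Clock

/-- Scalar elements. -/
theorem isC_scalar {n : ℕ} (hn : 1 ≤ n) {e : K} (hen : e ^ n = 1) (he1 : J.σ e * e = 1) :
    IsC J (1 : Matrix (Fin n) (Fin n) K) (e • 1) := by
  classical
  set d := orderOf e with hd
  obtain ⟨j, hj⟩ : d ∣ n := orderOf_dvd_of_pow_eq_one hen
  have hd0 : d ≠ 0 := fun z => by rw [z, zero_mul] at hj; omega
  haveI : NeZero d := ⟨hd0⟩
  let eqv : Fin n ≃ Fin d × Fin j := (finCongr hj).trans finProdFinEquiv.symm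
  have hed : e ^ d = 1 := pow_orderOf_eq_one e
  have hblock : ∀ x : K, (Matrix.blockDiagonal fun _ : Fin j => x • (1 : Matrix (Fin d) (Fin d) K)).submatrix eqv eqv =
      x • (1 : Matrix (Fin n) (Fin n) K) := fun x => by
    rw [show (fun _ : Fin j => x • (1 : Matrix (Fin d) (Fin d) K)) = x • (1 : Fin j → Matrix (Fin d) (Fin d) K) from rfl,
      blockDiagonal_smul, blockDiagonal_one]
    show x • ((1 : Matrix (Fin d × Fin j) (Fin d × Fin j) K).submatrix eqv eqv) = _
    rw [submatrix_one_equiv]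
  have hblock1 : (Matrix.blockDiagonal fun _ : Fin j => (1 : Matrix (Fin d) (Fin d) K)).submatrix eqv eqv = 1 := by
    simpa using hblock 1
  -- scaled clock and shift
  have hcase : ∀ μ : K, J.σ μ * μ = 1 → μ ^ n * ((-1) ^ (d - 1)) ^ j = 1 →
      IsC J (1 : Matrix (Fin n) (Fin n) K) (e • 1) := by
    intro μ hμ hμn
    obtain ⟨hdc, hds⟩ := det_clock_shift (d := d) (e := e) hd.symm
    let L : Matrix (Fin d) (Fin d) K → Matrix (Fin n) (Fin n) K := fun M =>
      (Matrix.blockDiagonal fun _ : Fin j => M).submatrix eqv eqv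
    have hmul : ∀ M N, L M * L N = L (M * N) := fun M N => by
      simp only [L, submatrix_mul_equiv, ← blockDiagonal_mul]
    have hiso : ∀ M : Matrix (Fin d) (Fin d) K, sad J M * M = 1 → Iso J 1 (μ • L M) := fun M hM => by
      have hs : sad J (L M) = L (sad J M) := by
        simp only [L, sad, ← Matrix.submatrix_map, Matrix.transpose_submatrix,
          Matrix.blockDiagonal_map _ _ (map_zero J.σ), Matrix.blockDiagonal_transpose]
      show _ * _ * _ = _
      rw [Matrix.mul_one, sad_smul, hs, Matrix.smul_mul, Matrix.mul_smul, smul_smul, hμ, one_smul, hmul, hM]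
      exact hblock1
    have hdet : ∀ M : Matrix (Fin d) (Fin d) K, M.det = (-1) ^ (d - 1) → (μ • L M).det = 1 := fun M hM => by
      rw [det_smul, Fintype.card_fin, det_submatrix_equiv_self, det_blockDiagonal]
      simpa [hM] using hμn
    refine ⟨μ • L shift, μ • L (clock e), hiso _ ?_, hiso _ ?_, hdet _ hds, hdet _ hdc, ?_⟩
    · rw [shift, sad_permMatrix, ← Matrix.permMatrix_mul, mul_inv_cancel, Matrix.permMatrix_one]
    · rw [clock, sad, diagonal_map (map_zero J.σ), diagonal_transpose, diagonal_mul_diagonal,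
        ← diagonal_one]
      congr 1
      funext i
      rw [map_pow, ← mul_pow, he1, one_pow]
    · simp only [Matrix.smul_mul, Matrix.mul_smul, Matrix.one_mul, hmul, smul_smul]
      rw [show L (shift * clock e) = e • L (clock e * shift) by
        rw [← clock_shift hed]
        simp only [L]
        rw [show (fun _ : Fin j => e • (clock e * shift : Matrix (Fin d) (Fin d) K)) =
            e • (fun _ : Fin j => (clock e * shift : Matrix (Fin d) (Fin d) K)) from rfl,
          blockDiagonal_smul]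
        rfl]
      rw [smul_smul]
  rcases Nat.even_or_odd d with ⟨h, hh⟩ | hodd
  swap
  · refine hcase 1 (by simp) ?_
    rw [one_pow, one_mul, (Nat.Odd.sub_odd hodd odd_one).neg_one_pow, one_pow]
  rcases Nat.even_or_odd j with hje | hjo
  · refine hcase 1 (by simp) ?_
    rw [one_pow, one_mul, ← pow_mul, mul_comm, pow_mul, hje.neg_one_pow, one_pow]
  have hodd1 : ((-1 : K) ^ (d - 1)) ^ j = -1 := by
    rw [Odd.neg_one_pow (n := d - 1) ⟨h - 1, by omega⟩, hjo.neg_one_pow]
  have h2 : 2 ≤ J.q := J.q_two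
  have hdq : d ∣ J.q + 1 := orderOf_dvd_of_pow_eq_one (by rw [pow_succ, ← J.σ_eq, he1])
  obtain ⟨i, hi⟩ := hdq
  -- an element of order twice `d`
  obtain ⟨ω, hω⟩ : ∃ ω : K, ω ^ d = -1 := by
    obtain ⟨g, hg⟩ := IsCyclic.exists_generator (α := Kˣ)
    have hord : orderOf g = J.q ^ 2 - 1 := by
      rw [orderOf_eq_card_of_forall_mem_zpowers hg, Nat.card_eq_fintype_card, Fintype.card_units, J.card]
    have hfac : J.q ^ 2 - 1 = (J.q + 1) * (J.q - 1) := by rw [← Nat.sq_sub_sq]
    have hqo : Odd J.q := by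
      rcases Nat.even_or_odd J.q with hev | ho
      · exfalso
        have : Even (J.q + 1) := by rw [hi, hh]; exact Even.mul_right ⟨h, rfl⟩ _
        exact Nat.even_add_one.1 this hev
      · exact ho
    obtain ⟨c, hc⟩ := hqo
    have hord2 : orderOf g = (i * c) * (2 * d) := by
      rw [hord, hfac, hi, show J.q - 1 = 2 * c by omega]; ring
    have hic : i * c ≠ 0 := by
      refine mul_ne_zero (fun z => ?_) (by omega)
      rw [z, mul_zero] at hi; omega
    have hy : orderOf (g ^ (i * c)) = 2 * d := by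
      rw [orderOf_pow' _ hic, hord2, Nat.gcd_eq_right (dvd_mul_right _ _), Nat.mul_div_cancel_left _ (Nat.pos_of_ne_zero hic)]
    refine ⟨((g ^ (i * c) : Kˣ) : K), ?_⟩
    have hsq : (((g ^ (i * c) : Kˣ) : K) ^ d) * (((g ^ (i * c) : Kˣ) : K) ^ d) = 1 := by
      rw [← pow_add, ← Units.val_pow_eq_pow_val, show d + d = orderOf (g ^ (i * c)) by omega, pow_orderOf_eq_one,
        Units.val_one]
    refine (mul_self_eq_one_iff.1 hsq).resolve_left fun z => ?_
    rw [← Units.val_pow_eq_pow_val, Units.val_eq_one] at z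
    have := orderOf_dvd_of_pow_eq_one z
    rw [hy] at this
    have := Nat.le_of_dvd (by omega) this
    omega
  have hωn : J.σ ω * ω = (-1) ^ i := by rw [J.σ_eq, ← pow_succ, hi, pow_mul, hω]
  rcases Nat.even_or_odd i with hie | hio
  · refine hcase ω (by rw [hωn, hie.neg_one_pow]) ?_
    rw [hj, pow_mul, hω, hjo.neg_one_pow, hodd1, neg_mul_neg, one_mul]
  · have h1 := ((isC_special J hd.symm he1 hh hω (by rw [hωn, hio.neg_one_pow])).blockDiagonal J (o := Fin j)).relabel J eqv
    rwa [hblock1, hblock] at h1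

end CfsgLib.SUComm
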