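import Cfsg.Agent.Lib.SUComm.Normalise
import Cfsg.Agent.Lib.SUComm.Param
import Cfsg.Agent.Lib.SUComm.Scalar
import Cfsg.Agent.Lib.Classical.UnitaryConj
import Cfsg.Prelude.Def_Classical

/-!
Every element of `SU_n(q)` is a commutator, given the factorisation over the field with four elements.
-/

set_option autoImplicit false
set_option linter.unusedSectionVars false

namespace CfsgLib.SUComm

open Matrix Polynomial

universe u

variable {K : Type u} [Field K] [Fintype K] (J : Cj K)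

theorem Fac.one {m k : ℕ} {A : Matrix (Fin m) (Fin m) K} (h : Fac J k A) :
    Fac J k (1 : Matrix (Fin m) (Fin m) K) := by
  obtain ⟨s, si, z, zi, P, c, h1, -, -, h4, h5, h6, h7, h8, -⟩ := h
  exact ⟨s, si, 1, 1, P, c, h1, one_mul 1, by rw [mul_one, mul_one, h1], h4, h5, h6, h7, h8, by simp⟩

theorem exists_witness {m : ℕ} (hm : 2 ≤ m) :
    ∃ A : Matrix (Fin m) (Fin m) K, A.det = 1 ∧ (∀ e : K, A ≠ e • 1) ∧ 2 ≤ (A - 1).rank := by
  set i : Fin m := ⟨0, by omega⟩ with hi
  set j : Fin m := ⟨1, by omega⟩ with hj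
  have hij : i ≠ j := by simp [hi, hj, Fin.ext_iff]
  set u : Fin m → K := Pi.single i 1
  set v : Fin m → K := Pi.single j 1
  have huv : v ⬝ᵥ u = 0 := by simp [u, v, hij, hij.symm]
  have hvu : u ⬝ᵥ v = 0 := by simp [u, v, hij, hij.symm]
  have hM : (1 + vecMulVec u v) * (1 + vecMulVec v u) - 1 = vecMulVec u (v + u) + vecMulVec v u := by
    rw [Matrix.add_mul, Matrix.one_mul, Matrix.mul_add, Matrix.mul_one, vecMulVec_mul_vecMulVec,
      show v ⬝ᵥ v = 1 by simp [v], one_smul, vecMulVec_add]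
    abel
  refine ⟨(1 + vecMulVec u v) * (1 + vecMulVec v u), by
    rw [det_mul, det_one_add_vecMulVec', det_one_add_vecMulVec', huv, hvu, add_zero, mul_one], fun e he => ?_, ?_⟩
  · rw [he] at hM
    have := congrFun (congrFun hM i) j
    simp [u, v, vecMulVec_apply, hij, hij.symm] at this
  · rw [hM]
    refine two_le_rank (fun c e => ?_) (fun e => ?_) (fun c e => ?_) (fun e => ?_)
    · simpa [u, v, hij] using congrFun e i
    · simpa [v] using congrFun e j
    · simpa [u, v, hij, hij.symm] using congrFun e j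
    · simpa [u] using congrFun e i

/-- The factorisation needed over the field with four elements. -/
def FourHyp : Prop :=
  J.q = 2 → ∀ {m : ℕ}, 2 ≤ m → ∀ (k : ℕ) (A : Matrix (Fin m) (Fin m) K), A.det = 1 → (∀ e : K, A ≠ e • 1) →
    2 ≤ (A - 1).rank → Fac J k A

theorem fac_of_nice (h4 : FourHyp J) {m k : ℕ} (hm : 1 ≤ m) (hk : k ≤ 1) (hn : 3 ≤ m + k + m)
    (hex : ¬ (m + k + m = 3 ∧ J.q = 2)) {A : Matrix (Fin m) (Fin m) K} (hdet : A.det = 1) (hA : Nice J A) :
    Fac J k A := by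
  rcases (by omega : m = 1 ∨ 2 ≤ m) with rfl | hm2
  · obtain rfl : k = 1 := by omega
    have h1 : A = 1 := by
      ext i j
      rw [det_fin_one] at hdet
      rw [Subsingleton.elim i 0, Subsingleton.elim j 0, hdet, one_apply_eq]
    subst h1
    have := J.q_two
    exact fac_one J (by omega)
  have key : ∀ B : Matrix (Fin m) (Fin m) K, B.det = 1 → (∀ e : K, B ≠ e • 1) → (J.q = 2 → 2 ≤ (B - 1).rank) →
      Fac J k B := by
    intro B hB hns hr
    have := J.q_two
    rcases (by omega : J.q = 2 ∨ 3 ≤ J.q) with hq | hq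
    · exact h4 hq hm2 k B hB hns (hr hq)
    rcases (by omega : m = 2 ∨ 3 ≤ m) with rfl | hm3
    · exact fac_two J hq hB hns
    · exact fac_three J hq hm3 hB hns
  rcases hA with rfl | ⟨hns, hr⟩
  · obtain ⟨B, hB, hB1, hB2⟩ := exists_witness (K := K) hm2
    exact (key B hB hB1 fun _ => hB2).one J
  · exact key A hdet hns hr

theorem smul_one_iso_norm {n : ℕ} (hn : 1 ≤ n) {e : K}
    (h : Iso J (1 : Matrix (Fin n) (Fin n) K) (e • 1)) : J.σ e * e = 1 := by
  have := congrFun (congrFun h ⟨0, hn⟩) ⟨0, hn⟩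
  simp [sad_smul, smul_smul] at this
  linear_combination this

/-- Every isometry of determinant one of the standard form is a commutator. -/
theorem isC_standard (h4 : FourHyp J) {n : ℕ} (hn : 3 ≤ n) (hex : ¬ (n = 3 ∧ J.q = 2))
    {G : Matrix (Fin n) (Fin n) K} (hG : Iso J 1 G) (hGd : G.det = 1) : IsC J 1 G := by
  by_cases hs : ∃ e : K, G = e • 1
  · obtain ⟨e, rfl⟩ := hs
    refine isC_scalar J (by omega) ?_ (smul_one_iso_norm J (by omega) hG)
    rwa [det_smul, det_one, mul_one, Fintype.card_fin] at hGd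
  push Not at hs
  set k := n % 2
  set m := n / 2
  have hcard : m + k + m = n := by omega
  let f : Fin n ≃ Idx m k := Fintype.equivOfCardEq (by simp; omega)
  obtain ⟨Y, Z, hYZ, hZY, hY, hZ⟩ := exists_std J m k
  set G1 := G.submatrix f.symm f.symm with hG1
  have hG1i : Iso J 1 G1 := by
    show sad J (G.submatrix f.symm f.symm) * 1 * G.submatrix f.symm f.symm = 1
    rw [Matrix.mul_one, show sad J (G.submatrix f.symm f.symm) = (sad J G).submatrix f.symm f.symm from rfl,
      submatrix_mul_equiv, show sad J G * G = 1 by simpa [Iso] using hG, submatrix_one_equiv]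
  set G2 := Z * G1 * Y with hG2
  have hG2i : Iso J Hm G2 := by
    show sad J (Z * G1 * Y) * Hm * (Z * G1 * Y) = Hm
    rw [sad_mul, sad_mul]
    calc sad J Y * (sad J G1 * sad J Z) * Hm * (Z * G1 * Y)
        = sad J Y * sad J G1 * (sad J Z * Hm * Z) * G1 * Y := by simp only [Matrix.mul_assoc]
      _ = sad J Y * (sad J G1 * 1 * G1) * Y := by rw [hZ]; simp only [Matrix.mul_assoc]
      _ = Hm := by rw [show sad J G1 * 1 * G1 = 1 from hG1i, hY]
  have hG2d : G2.det = 1 := by rw [hG2, det_conj hYZ hZY, hG1, det_submatrix_equiv_self, hGd]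
  have hG2s : ∀ e : K, G2 ≠ e • 1 := fun e he => hs e (by
    have h1 : G1 = e • 1 := by
      calc G1 = Y * G2 * Z := by
            rw [hG2]; simp only [← Matrix.mul_assoc]; rw [hYZ, Matrix.one_mul, Matrix.mul_assoc, hYZ, Matrix.mul_one]
        _ = e • 1 := by rw [he, Matrix.mul_smul, Matrix.mul_one, Matrix.smul_mul, hYZ]
    have := congrArg (fun M => M.submatrix f f) h1
    simpa [hG1, submatrix_submatrix, Matrix.submatrix_smul, submatrix_one_equiv] using this)
  obtain ⟨l, x, A, Ai, hl, hx, hconj, hAi, hA, hnice⟩ :=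
    exists_normal J (show 1 ≤ m by omega) (show k ≤ 1 by omega) hG2i hG2d hG2s
  have hfac := fac_of_nice J h4 (show 1 ≤ m by omega) (show k ≤ 1 by omega) (by omega)
    (by rw [hcard]; exact hex) hA hnice
  have h1 : IsC J Hm G2 := hconj.isC J (isC_of_fac J (by rwa [Fintype.card_fin]) hAi hl hx)
  have h2 := h1.transport J (Y := Z) (Z := Y) hZY hYZ hZ (g' := G1) (by
    rw [hG2]; simp only [← Matrix.mul_assoc]; rw [hYZ, Matrix.one_mul, Matrix.mul_assoc, hYZ, Matrix.mul_one])
  simpa [hG1, submatrix_submatrix, submatrix_one_equiv] using h2.relabel J f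

/-- In the form of the statement. -/
theorem exists_commutator {n : ℕ} (h4 : FourHyp J) (hn : 3 ≤ n) (hex : ¬ (n = 3 ∧ J.q = 2))
    (g : ↥(Cfsg.SU n K J.q)) : ∃ a b : ↥(Cfsg.SU n K J.q), g = a * b * a⁻¹ * b⁻¹ := by
  have hmem : ∀ x : Matrix.SpecialLinearGroup (Fin n) K,
      x ∈ Cfsg.SU n K J.q ↔ Iso J 1 (x : Matrix (Fin n) (Fin n) K) := fun x => by
    have h := Classical.UnitaryConj.mem_gu_iff J.σ J.σ_eq J.σσ (Matrix.SpecialLinearGroup.toGL x)
    rw [Units.ext_iff] at h
    show _ ↔ sad J (x : Matrix (Fin n) (Fin n) K) * 1 * (x : Matrix (Fin n) (Fin n) K) = 1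
    rw [Matrix.mul_one]
    exact h
  obtain ⟨a, b, ha, hb, had, hbd, he⟩ := isC_standard J h4 hn hex ((hmem g.1).1 g.2) g.1.2
  refine ⟨⟨⟨a, had⟩, (hmem _).2 ha⟩, ⟨⟨b, hbd⟩, (hmem _).2 hb⟩, ?_⟩
  set A : ↥(Cfsg.SU n K J.q) := ⟨⟨a, had⟩, (hmem _).2 ha⟩
  set B : ↥(Cfsg.SU n K J.q) := ⟨⟨b, hbd⟩, (hmem _).2 hb⟩
  have e : g * (B * A) = A * B := Subtype.ext (Subtype.ext he)
  rw [← e]; group

end CfsgLib.SUComm
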