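import Cfsg.Agent.Lib.SUComm.Basic

/-!
The split model `ι + κ + ι` of a Hermitian space, its unipotent and Levi elements, and the commutator built
from a factorisation in the Levi subgroup.
-/

set_option autoImplicit false
set_option linter.unusedSectionVars false

namespace CfsgLib.SUComm

open Matrix Polynomial

universe u

variable {K : Type u} [Field K] [Fintype K] (J : Cj K)
variable {ι κ : Type*} [Fintype ι] [DecidableEq ι] [Fintype κ] [DecidableEq κ]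

/-- A matrix in nine blocks. -/
def mk (a : Matrix ι ι K) (b : Matrix ι κ K) (c : Matrix ι ι K) (d : Matrix κ ι K) (e : Matrix κ κ K)
    (f : Matrix κ ι K) (g : Matrix ι ι K) (h : Matrix ι κ K) (i : Matrix ι ι K) :
    Matrix (ι ⊕ (κ ⊕ ι)) (ι ⊕ (κ ⊕ ι)) K :=
  fromBlocks a (fromCols b c) (fromRows d g) (fromBlocks e f h i)

theorem mk_mul (a : Matrix ι ι K) (b : Matrix ι κ K) (c : Matrix ι ι K) (d : Matrix κ ι K) (e : Matrix κ κ K)
    (f : Matrix κ ι K) (g : Matrix ι ι K) (h : Matrix ι κ K) (i : Matrix ι ι K)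
    (a' : Matrix ι ι K) (b' : Matrix ι κ K) (c' : Matrix ι ι K) (d' : Matrix κ ι K) (e' : Matrix κ κ K)
    (f' : Matrix κ ι K) (g' : Matrix ι ι K) (h' : Matrix ι κ K) (i' : Matrix ι ι K) :
    mk a b c d e f g h i * mk a' b' c' d' e' f' g' h' i' =
      mk (a * a' + b * d' + c * g') (a * b' + b * e' + c * h') (a * c' + b * f' + c * i')
        (d * a' + e * d' + f * g') (d * b' + e * e' + f * h') (d * c' + e * f' + f * i')
        (g * a' + h * d' + i * g') (g * b' + h * e' + i * h') (g * c' + h * f' + i * i') := by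
  unfold mk
  simp only [fromBlocks_multiply, fromCols_mul_fromRows, fromRows_mul, mul_fromCols, fromBlocks_mul_fromRows,
    fromCols_mul_fromBlocks, fromRows_mul_fromCols]
  ext (r | r | r) (s | s | s) <;> simp <;> abel

theorem sad_mk (a : Matrix ι ι K) (b : Matrix ι κ K) (c : Matrix ι ι K) (d : Matrix κ ι K) (e : Matrix κ κ K)
    (f : Matrix κ ι K) (g : Matrix ι ι K) (h : Matrix ι κ K) (i : Matrix ι ι K) :
    sad J (mk a b c d e f g h i) = mk (sad J a) (sad J d) (sad J g) (sad J b) (sad J e) (sad J h) (sad J c)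
      (sad J f) (sad J i) := by
  ext (r | r | r) (s | s | s) <;> rfl

theorem mk_inj {a a' : Matrix ι ι K} {b b' : Matrix ι κ K} {c c' : Matrix ι ι K} {d d' : Matrix κ ι K}
    {e e' : Matrix κ κ K} {f f' : Matrix κ ι K} {g g' : Matrix ι ι K} {h h' : Matrix ι κ K} {i i' : Matrix ι ι K} :
    mk a b c d e f g h i = mk a' b' c' d' e' f' g' h' i' ↔
      a = a' ∧ b = b' ∧ c = c' ∧ d = d' ∧ e = e' ∧ f = f' ∧ g = g' ∧ h = h' ∧ i = i' := by
  refine ⟨fun E => ?_, fun ⟨h1, h2, h3, h4, h5, h6, h7, h8, h9⟩ => by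
    rw [h1, h2, h3, h4, h5, h6, h7, h8, h9]⟩
  simp only [mk, fromBlocks_inj, fromCols_ext_iff, fromRows_ext_iff, toCols₁_fromCols, toCols₂_fromCols,
    toRows₁_fromRows, toRows₂_fromRows] at E
  obtain ⟨h1, ⟨h2, h3⟩, ⟨h4, h7⟩, h5, h6, h8, h9⟩ := E
  exact ⟨h1, h2, h3, h4, h5, h6, h7, h8, h9⟩

theorem exists_eq_mk (M : Matrix (ι ⊕ (κ ⊕ ι)) (ι ⊕ (κ ⊕ ι)) K) :
    ∃ a b c d e f g h i, M = mk a b c d e f g h i :=
  ⟨M.toBlocks₁₁, M.toBlocks₁₂.toCols₁, M.toBlocks₁₂.toCols₂, M.toBlocks₂₁.toRows₁, M.toBlocks₂₂.toBlocks₁₁,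
    M.toBlocks₂₂.toBlocks₁₂, M.toBlocks₂₁.toRows₂, M.toBlocks₂₂.toBlocks₂₁, M.toBlocks₂₂.toBlocks₂₂, by
      ext (r | r | r) (s | s | s) <;> rfl⟩

theorem one_eq_mk : (1 : Matrix (ι ⊕ (κ ⊕ ι)) (ι ⊕ (κ ⊕ ι)) K) = mk 1 0 0 0 1 0 0 0 1 := by
  ext (r | r | r) (s | s | s) <;> simp [mk, Matrix.one_apply]

theorem smul_one_eq_mk (x : K) : x • (1 : Matrix (ι ⊕ (κ ⊕ ι)) (ι ⊕ (κ ⊕ ι)) K) =
    mk (x • 1) 0 0 0 (x • 1) 0 0 0 (x • 1) := by
  ext (r | r | r) (s | s | s) <;> simp [mk, Matrix.one_apply]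

theorem det_mk_low (a : Matrix ι ι K) (d : Matrix κ ι K) (e : Matrix κ κ K) (g : Matrix ι ι K) (h : Matrix ι κ K)
    (i : Matrix ι ι K) : (mk a 0 0 d e 0 g h i).det = a.det * (e.det * i.det) := by
  rw [mk, fromCols_zero, det_fromBlocks_zero₁₂, det_fromBlocks_zero₁₂]

theorem det_mk_upp (a : Matrix ι ι K) (b : Matrix ι κ K) (c : Matrix ι ι K) (e : Matrix κ κ K) (f : Matrix κ ι K)
    (i : Matrix ι ι K) : (mk a b c 0 e f 0 0 i).det = a.det * (e.det * i.det) := by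
  rw [mk, fromRows_zero, det_fromBlocks_zero₂₁, det_fromBlocks_zero₂₁]

/-- The form of the model. -/
def Hm : Matrix (ι ⊕ (κ ⊕ ι)) (ι ⊕ (κ ⊕ ι)) K := mk 0 0 1 0 1 0 1 0 0

local notation "𝓗" => (Hm : Matrix (ι ⊕ (κ ⊕ ι)) (ι ⊕ (κ ⊕ ι)) K)

theorem Hm_sq : 𝓗 * 𝓗 = 1 := by simp [Hm, mk_mul, one_eq_mk]

theorem sad_Hm : sad J 𝓗 = 𝓗 := by simp [Hm, sad_mk]

/-- The inverse of an isometry. -/
def adjH (g : Matrix (ι ⊕ (κ ⊕ ι)) (ι ⊕ (κ ⊕ ι)) K) : Matrix (ι ⊕ (κ ⊕ ι)) (ι ⊕ (κ ⊕ ι)) K :=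
  𝓗 * sad J g * 𝓗

theorem adjH_mul {g : Matrix (ι ⊕ (κ ⊕ ι)) (ι ⊕ (κ ⊕ ι)) K} (hg : Iso J 𝓗 g) : adjH J g * g = 1 := by
  rw [adjH, Matrix.mul_assoc, Matrix.mul_assoc, ← Matrix.mul_assoc (sad J g), show sad J g * 𝓗 * g = 𝓗 from hg,
    Hm_sq]

theorem mul_adjH {g : Matrix (ι ⊕ (κ ⊕ ι)) (ι ⊕ (κ ⊕ ι)) K} (hg : Iso J 𝓗 g) : g * adjH J g = 1 :=
  mul_eq_one_comm.1 (adjH_mul J hg)

theorem Iso.adjH {g : Matrix (ι ⊕ (κ ⊕ ι)) (ι ⊕ (κ ⊕ ι)) K} (hg : Iso J 𝓗 g) : Iso J 𝓗 (adjH J g) := by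
  have h1 := mul_adjH J hg
  show _ * _ * _ = _
  calc sad J (SUComm.adjH J g) * 𝓗 * SUComm.adjH J g
      = sad J (SUComm.adjH J g) * (sad J g * 𝓗 * g) * SUComm.adjH J g := by rw [show sad J g * 𝓗 * g = 𝓗 from hg]
    _ = sad J (g * SUComm.adjH J g) * 𝓗 * (g * SUComm.adjH J g) := by rw [sad_mul]; simp only [Matrix.mul_assoc]
    _ = 𝓗 := by rw [h1, sad_one, Matrix.one_mul, Matrix.mul_one]

/-- Lower unitriangular isometries. -/
def Low (x : Matrix (ι ⊕ (κ ⊕ ι)) (ι ⊕ (κ ⊕ ι)) K) : Prop :=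
  Iso J 𝓗 x ∧ ∃ d g h, x = mk 1 0 0 d 1 0 g h 1

/-- Upper unitriangular isometries. -/
def Upp (x : Matrix (ι ⊕ (κ ⊕ ι)) (ι ⊕ (κ ⊕ ι)) K) : Prop :=
  Iso J 𝓗 x ∧ ∃ b c f, x = mk 1 b c 0 1 f 0 0 1

/-- The Levi element. -/
def lev (P Q : Matrix ι ι K) (w : K) : Matrix (ι ⊕ (κ ⊕ ι)) (ι ⊕ (κ ⊕ ι)) K :=
  mk P 0 0 0 (w • 1) 0 0 0 (sad J Q)

theorem Low.mul {x y : Matrix (ι ⊕ (κ ⊕ ι)) (ι ⊕ (κ ⊕ ι)) K} (hx : Low J x) (hy : Low J y) : Low J (x * y) := by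
  obtain ⟨h1, d, g, h, rfl⟩ := hx
  obtain ⟨h2, d', g', h', rfl⟩ := hy
  exact ⟨h1.mul J h2, d + d', g + h * d' + g', h + h', by simp [mk_mul, mk_inj, add_comm h h']⟩

theorem Low.adjH {x : Matrix (ι ⊕ (κ ⊕ ι)) (ι ⊕ (κ ⊕ ι)) K} (hx : Low J x) : Low J (adjH J x) := by
  obtain ⟨h1, d, g, h, rfl⟩ := hx
  exact ⟨h1.adjH J, sad J h, sad J g, sad J d, by simp [SUComm.adjH, Hm, sad_mk, mk_mul]⟩

theorem Low.det {x : Matrix (ι ⊕ (κ ⊕ ι)) (ι ⊕ (κ ⊕ ι)) K} (hx : Low J x) : x.det = 1 := by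
  obtain ⟨-, d, g, h, rfl⟩ := hx
  simp [det_mk_low]

theorem Upp.det {x : Matrix (ι ⊕ (κ ⊕ ι)) (ι ⊕ (κ ⊕ ι)) K} (hx : Upp J x) : x.det = 1 := by
  obtain ⟨-, b, c, f, rfl⟩ := hx
  simp [det_mk_upp]

theorem Low.flip {x : Matrix (ι ⊕ (κ ⊕ ι)) (ι ⊕ (κ ⊕ ι)) K} (hx : Low J x) : Upp J (𝓗 * x * 𝓗) := by
  obtain ⟨h1, d, g, h, rfl⟩ := hx
  have hH : Iso J 𝓗 𝓗 := by rw [Iso, sad_Hm, Hm_sq, Matrix.one_mul]
  exact ⟨(hH.mul J h1).mul J hH, h, g, d, by simp [Hm, mk_mul]⟩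

theorem Upp.flip {x : Matrix (ι ⊕ (κ ⊕ ι)) (ι ⊕ (κ ⊕ ι)) K} (hx : Upp J x) : Low J (𝓗 * x * 𝓗) := by
  obtain ⟨h1, b, c, f, rfl⟩ := hx
  have hH : Iso J 𝓗 𝓗 := by rw [Iso, sad_Hm, Hm_sq, Matrix.one_mul]
  exact ⟨(hH.mul J h1).mul J hH, f, c, b, by simp [Hm, mk_mul]⟩

theorem iso_lev {P Q : Matrix ι ι K} {w : K} (hPQ : Q * P = 1) (hw : J.σ w * w = 1) :
    Iso J 𝓗 (lev J P Q w : Matrix (ι ⊕ (κ ⊕ ι)) (ι ⊕ (κ ⊕ ι)) K) := by
  have h1 : sad J P * sad J Q = 1 := by rw [← sad_mul, hPQ, sad_one]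
  simp [Iso, lev, Hm, sad_mk, mk_mul, mk_inj, smul_smul, hw, h1, hPQ, mul_comm w]

theorem lev_mul (P Q P' Q' : Matrix ι ι K) (w w' : K) :
    (lev J P Q w : Matrix (ι ⊕ (κ ⊕ ι)) (ι ⊕ (κ ⊕ ι)) K) * lev J P' Q' w' = lev J (P * P') (Q' * Q) (w * w') := by
  simp [lev, mk_mul, mk_inj, smul_smul, sad_mul, mul_comm w]

theorem lev_one : (lev J 1 1 1 : Matrix (ι ⊕ (κ ⊕ ι)) (ι ⊕ (κ ⊕ ι)) K) = 1 := by simp [lev, one_eq_mk]

theorem det_lev (P Q : Matrix ι ι K) (w : K) :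
    (lev J P Q w : Matrix (ι ⊕ (κ ⊕ ι)) (ι ⊕ (κ ⊕ ι)) K).det = P.det * (w ^ Fintype.card κ * J.σ Q.det) := by
  rw [lev, det_mk_low, det_smul, det_one, mul_one, det_sad]

theorem lev_flip (P Q : Matrix ι ι K) (w : K) :
    𝓗 * lev J P Q w * 𝓗 = lev J (sad J Q) (sad J P) w := by
  simp [lev, Hm, mk_mul, mk_inj]

/-- The inverse matrix of a Levi element acts on lower unitriangular elements by conjugation. -/
theorem Low.lev_conj {x : Matrix (ι ⊕ (κ ⊕ ι)) (ι ⊕ (κ ⊕ ι)) K} (hx : Low J x) {P Q : Matrix ι ι K} {w w' : K}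
    (hPQ : P * Q = 1) (hQP : Q * P = 1) (hw : w * w' = 1) (hwn : J.σ w * w = 1) :
    Low J (lev J P Q w * x * lev J Q P w') := by
  obtain ⟨h1, d, g, h, rfl⟩ := hx
  have hw' : J.σ w' * w' = 1 := by
    have := congrArg (fun z => J.σ z * z) hw
    simp only [map_mul, map_one, mul_one] at this
    linear_combination this - J.σ w' * w' * hwn
  refine ⟨((iso_lev J hQP hwn).mul J h1).mul J (iso_lev J hPQ hw'), w • (d * Q), sad J Q * g * Q,
    w' • (sad J Q * h), ?_⟩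
  simp [lev, mk_mul, mk_inj, smul_smul, mul_comm w' w, hw, hPQ, ← sad_mul]

/-- Every lower element is a commutator with a fixed-point-free Levi element. -/
theorem exists_low_conj {P Q : Matrix ι ι K} {w w' : K} (hPQ : P * Q = 1) (hQP : Q * P = 1) (hw : w * w' = 1)
    (hwn : J.σ w * w = 1) (hu : ∀ u : Matrix κ ι K, u * P = w • u → u = 0)
    (hS : ∀ S : Matrix ι ι K, sad J P * S * P = S → S = 0)
    {l : Matrix (ι ⊕ (κ ⊕ ι)) (ι ⊕ (κ ⊕ ι)) K} (hl : Low J l) :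
    ∃ x, Low J x ∧ l * lev J P Q w = x * lev J P Q w * SUComm.adjH J x := by
  classical
  set L : Matrix (ι ⊕ (κ ⊕ ι)) (ι ⊕ (κ ⊕ ι)) K := lev J P Q w with hL
  set Li : Matrix (ι ⊕ (κ ⊕ ι)) (ι ⊕ (κ ⊕ ι)) K := lev J Q P w' with hLi
  have hLL : L * Li = 1 := by rw [hL, hLi, lev_mul, hPQ, hw, lev_one]
  have hLiL : Li * L = 1 := mul_eq_one_comm.1 hLL
  let φ : {x // Low J x} → {x // Low J (ι := ι) (κ := κ) x} := fun x =>
    ⟨x.1 * (L * SUComm.adjH J x.1 * Li), x.2.mul J ((x.2.adjH J).lev_conj J hPQ hQP hw hwn)⟩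
  have hinj : Function.Injective φ := by
    rintro ⟨x, hx⟩ ⟨y, hy⟩ e
    have e' : x * (L * SUComm.adjH J x * Li) = y * (L * SUComm.adjH J y * Li) := congrArg Subtype.val e
    have h1 := congrArg (fun M => SUComm.adjH J y * M * (L * x)) e'
    have hxx := adjH_mul J hx.1
    have hyy := adjH_mul J hy.1
    set z := SUComm.adjH J y * x with hz
    have h2 : z * L = L * z := by
      simp only [Matrix.mul_assoc] at h1
      rw [← Matrix.mul_assoc Li L, hLiL, Matrix.one_mul, hxx, Matrix.mul_one, ← Matrix.mul_assoc _ y, hyy,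
        Matrix.one_mul, ← Matrix.mul_assoc (SUComm.adjH J y) x L] at h1
      exact h1
    obtain ⟨hzi, d, g, h, hz'⟩ := (hy.adjH J).mul J hx
    rw [← hz] at hzi hz'
    rw [hz', hL, lev, mk_mul, mk_mul, mk_inj] at h2
    simp at h2
    obtain ⟨h4, h7, -⟩ := h2
    have hd : d = 0 := hu d h4
    have hh : h = 0 := by
      rw [hz'] at hzi
      simp [Iso, Hm, sad_mk, mk_mul, mk_inj, hd] at hzi
      exact sad_sad J h ▸ by rw [hzi.2.1]; simp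
    have hg : g = 0 := hS g (by
      rw [Matrix.mul_assoc, h7, ← Matrix.mul_assoc, ← sad_mul, hQP, sad_one, Matrix.one_mul])
    have hz1 : z = 1 := by rw [hz', hd, hh, hg, one_eq_mk]
    refine Subtype.ext ?_
    calc x = y * z := by rw [hz, ← Matrix.mul_assoc, mul_adjH J hy.1, Matrix.one_mul]
      _ = y := by rw [hz1, Matrix.mul_one]
  obtain ⟨⟨x, hx⟩, hxl⟩ := Finite.surjective_of_injective hinj ⟨l, hl⟩
  refine ⟨x, hx, ?_⟩
  rw [show l = x * (L * SUComm.adjH J x * Li) from (congrArg Subtype.val hxl).symm]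
  simp only [Matrix.mul_assoc]
  rw [hLiL, Matrix.mul_one]

/-- The same for upper elements. -/
theorem exists_upp_conj {P Q : Matrix ι ι K} {w w' : K} (hPQ : P * Q = 1) (hQP : Q * P = 1) (hw : w * w' = 1)
    (hwn : J.σ w * w = 1) (hu : ∀ u : Matrix κ ι K, u * sad J Q = w • u → u = 0)
    (hS : ∀ S : Matrix ι ι K, Q * S * sad J Q = S → S = 0)
    {x : Matrix (ι ⊕ (κ ⊕ ι)) (ι ⊕ (κ ⊕ ι)) K} (hx : Upp J x) :
    ∃ y, Upp J y ∧ lev J P Q w * x = y * lev J P Q w * SUComm.adjH J y := by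
  have e : (lev J P Q w : Matrix (ι ⊕ (κ ⊕ ι)) (ι ⊕ (κ ⊕ ι)) K) = 𝓗 * lev J (sad J Q) (sad J P) w * 𝓗 := by
    rw [lev_flip, sad_sad, sad_sad]
  set L := (lev J (sad J Q) (sad J P) w : Matrix (ι ⊕ (κ ⊕ ι)) (ι ⊕ (κ ⊕ ι)) K) with hL
  set Li := (lev J (sad J P) (sad J Q) w' : Matrix (ι ⊕ (κ ⊕ ι)) (ι ⊕ (κ ⊕ ι)) K) with hLi
  have h1 : sad J Q * sad J P = 1 := by rw [← sad_mul, hPQ, sad_one]
  have h2 : sad J P * sad J Q = 1 := by rw [← sad_mul, hQP, sad_one]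
  have hLiL : Li * L = 1 := by rw [hL, hLi, lev_mul, h2, mul_comm w' w, hw, lev_one]
  obtain ⟨z, hz, hzl⟩ := exists_low_conj J h1 h2 hw hwn hu (fun S h => hS S (by rwa [sad_sad] at h))
    ((hx.flip J).lev_conj J h1 h2 hw hwn)
  refine ⟨𝓗 * z * 𝓗, hz.flip J, ?_⟩
  have h3 : SUComm.adjH J (𝓗 * z * 𝓗) = 𝓗 * SUComm.adjH J z * 𝓗 := by
    simp only [SUComm.adjH, sad_mul, sad_Hm, Matrix.mul_assoc]
  have hH : ∀ M : Matrix (ι ⊕ (κ ⊕ ι)) (ι ⊕ (κ ⊕ ι)) K, 𝓗 * (𝓗 * M) = M := fun M => by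
    rw [← Matrix.mul_assoc, Hm_sq, Matrix.one_mul]
  rw [e, h3]
  simp only [Matrix.mul_assoc, hH] at hzl ⊢
  rw [hLiL, Matrix.mul_one] at hzl
  have := congrArg (fun M => 𝓗 * M * 𝓗) hzl
  simp only [Matrix.mul_assoc] at this
  rwa [Hm_sq, Matrix.mul_one] at this

/-- The commutator from a factorisation of the Levi part. -/
theorem isC_of_factor {s si z zi A Ai : Matrix ι ι K} {c ci : K} (hs : s * si = 1) (hz : z * zi = 1)
    (hA : A = s * z * si * zi) (hAi : Ai * A = 1) (hc : c * ci = 1) (hcn : J.σ c * c = 1)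
    (hds : s.det * (c ^ Fintype.card κ * J.σ si.det) = 1) (hdz : J.σ zi.det * z.det = 1)
    (u1 : ∀ u : Matrix κ ι K, u * s = c • u → u = 0)
    (u2 : ∀ u : Matrix κ ι K, u * sad J s = ci • u → u = 0)
    (s1 : ∀ S : Matrix ι ι K, sad J s * S * s = S → S = 0)
    (s2 : ∀ S : Matrix ι ι K, s * S * sad J s = S → S = 0)
    {l x : Matrix (ι ⊕ (κ ⊕ ι)) (ι ⊕ (κ ⊕ ι)) K} (hl : Low J l) (hx : Upp J x) :
    IsC J 𝓗 (l * lev J A Ai 1 * x) := by
  have hsi := mul_eq_one_comm.1 hs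
  have hzi := mul_eq_one_comm.1 hz
  obtain ⟨p, hp, hpl⟩ := exists_low_conj J hs hsi hc hcn u1 s1 hl
  have hci : J.σ ci * ci = 1 := by
    have := congrArg (fun w => J.σ w * w) hc
    simp only [map_mul, map_one, mul_one] at this
    linear_combination this - J.σ ci * ci * hcn
  -- the second factor
  have hPQ : (z * si * zi) * (z * s * zi) = 1 := by
    calc (z * si * zi) * (z * s * zi) = z * si * (zi * z) * s * zi := by simp only [Matrix.mul_assoc]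
      _ = z * (si * s) * zi := by rw [hzi, Matrix.mul_one]; simp only [Matrix.mul_assoc]
      _ = 1 := by rw [hsi, Matrix.mul_one, hz]
  have hz1 : sad J zi * sad J z = 1 := by rw [← sad_mul, hz, sad_one]
  have hz2 : sad J z * sad J zi = 1 := by rw [← sad_mul, hzi, sad_one]
  obtain ⟨y, hy, hyl⟩ := exists_upp_conj J hPQ (mul_eq_one_comm.1 hPQ) ((mul_comm ci c).trans hc) hci
    (fun u h => by
      have h' : u * sad J zi * sad J s = ci • (u * sad J zi) := by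
        calc u * sad J zi * sad J s = u * sad J zi * sad J s * (sad J z * sad J zi) := by rw [hz2, Matrix.mul_one]
          _ = u * sad J (z * s * zi) * sad J zi := by simp only [sad_mul, Matrix.mul_assoc]
          _ = ci • (u * sad J zi) := by rw [h, Matrix.smul_mul]
      have := congrArg (· * sad J z) (u2 _ h')
      simpa [Matrix.mul_assoc, hz1] using this)
    (fun S h => by
      have h' : s * (zi * S * sad J zi) * sad J s = zi * S * sad J zi := by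
        calc s * (zi * S * sad J zi) * sad J s
            = (zi * z) * s * (zi * S * sad J zi) * sad J s * (sad J z * sad J zi) := by
              rw [hzi, hz2, Matrix.one_mul, Matrix.mul_one]
          _ = zi * (z * s * zi * S * sad J (z * s * zi)) * sad J zi := by simp only [sad_mul, Matrix.mul_assoc]
          _ = zi * S * sad J zi := by rw [h]
      have := congrArg (fun M => z * M * sad J z) (s2 _ h')
      simp only [Matrix.mul_assoc, hz1, Matrix.mul_one, ← Matrix.mul_assoc z zi, hz, Matrix.one_mul,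
        Matrix.mul_zero, Matrix.zero_mul] at this
      exact this) hx
  set L := (lev J s si c : Matrix (ι ⊕ (κ ⊕ ι)) (ι ⊕ (κ ⊕ ι)) K) with hL
  set Li := (lev J si s ci : Matrix (ι ⊕ (κ ⊕ ι)) (ι ⊕ (κ ⊕ ι)) K) with hLi
  set Z := (lev J z zi 1 : Matrix (ι ⊕ (κ ⊕ ι)) (ι ⊕ (κ ⊕ ι)) K) with hZ
  set Zi := (lev J zi z 1 : Matrix (ι ⊕ (κ ⊕ ι)) (ι ⊕ (κ ⊕ ι)) K) with hZi
  have hAi' : Ai = z * s * zi * si := by
    have h1 : A * (z * s * zi * si) = 1 := by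
      rw [hA]
      calc s * z * si * zi * (z * s * zi * si) = s * (z * si * zi * (z * s * zi)) * si := by
            simp only [Matrix.mul_assoc]
        _ = 1 := by rw [hPQ, Matrix.mul_one, hs]
    calc Ai = Ai * (A * (z * s * zi * si)) := by rw [h1, Matrix.mul_one]
      _ = _ := by rw [← Matrix.mul_assoc, hAi, Matrix.one_mul]
  have e : (lev J A Ai 1 : Matrix (ι ⊕ (κ ⊕ ι)) (ι ⊕ (κ ⊕ ι)) K) = L * lev J (z * si * zi) (z * s * zi) ci := by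
    rw [hL, lev_mul, hc, hA, hAi']; simp only [Matrix.mul_assoc]
  have e2 : (lev J (z * si * zi) (z * s * zi) ci : Matrix (ι ⊕ (κ ⊕ ι)) (ι ⊕ (κ ⊕ ι)) K) = Z * Li * Zi := by
    rw [hZ, hLi, hZi, lev_mul, lev_mul, one_mul, mul_one]; simp only [Matrix.mul_assoc]
  have c1 : SUComm.adjH J y * y = 1 := adjH_mul J hy.1
  have c2 : SUComm.adjH J p * p = 1 := adjH_mul J hp.1
  have c3 : Zi * Z = 1 := by rw [hZ, hZi, lev_mul, hzi, mul_one, lev_one]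
  have c4 : Li * L = 1 := by rw [hL, hLi, lev_mul, hsi, mul_comm ci c, hc, lev_one]
  refine ⟨p * L * SUComm.adjH J p, y * Z * SUComm.adjH J p,
    (hp.1.mul J (iso_lev J hsi hcn)).mul J (hp.1.adjH J),
    (hy.1.mul J (iso_lev J hzi (by simp))).mul J (hp.1.adjH J), ?_, ?_, ?_⟩
  · rw [det_mul, det_mul, hp.det, (hp.adjH J).det, hL, det_lev, hds, one_mul, one_mul]
  · rw [det_mul, det_mul, hy.det, (hp.adjH J).det, hZ, det_lev, one_pow, one_mul, one_mul, mul_one, mul_comm, hdz]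
  · rw [e, ← Matrix.mul_assoc l L, hL, hpl, Matrix.mul_assoc (p * _ * SUComm.adjH J p) (lev J _ _ ci) x, hyl, e2, ← hL]
    calc p * L * SUComm.adjH J p * (y * (Z * Li * Zi) * SUComm.adjH J y) *
          (y * Z * SUComm.adjH J p * (p * L * SUComm.adjH J p))
        = p * L * SUComm.adjH J p * y * Z * Li * (Zi * (SUComm.adjH J y * y) * Z) * (SUComm.adjH J p * p) * L *
            SUComm.adjH J p := by simp only [Matrix.mul_assoc]
      _ = p * L * SUComm.adjH J p * y * Z * (Li * L) * SUComm.adjH J p := by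
        simp only [c1, c2, c3, Matrix.mul_one]; simp only [Matrix.mul_assoc]
      _ = _ := by rw [c4, Matrix.mul_one]; simp only [Matrix.mul_assoc]

end CfsgLib.SUComm
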