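import Cfsg.Agent.Lib.SUComm.Model

/-!
A noncentral isometry of determinant one of the split model is conjugate to a product lower times Levi times
upper, whose Levi part has determinant one and is not scalar.
-/

set_option autoImplicit false
set_option linter.unusedSectionVars false

namespace CfsgLib.SUComm

open Matrix Polynomial

universe u

variable {K : Type u} [Field K] [Fintype K] (J : Cj K)
variable {m k : ℕ}

/-- The index type of the model. -/
abbrev Idx (m k : ℕ) : Type := Fin m ⊕ (Fin k ⊕ Fin m)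

local notation "𝕄" => Matrix (Idx m k) (Idx m k) K
local notation "𝓗" => (Hm : Matrix (Idx m k) (Idx m k) K)

/-- Conjugate by an isometry. -/
def Conj (g g' : 𝕄) : Prop := ∃ u : 𝕄, Iso J 𝓗 u ∧ g' = u * g * adjH J u

theorem Conj.refl (g : 𝕄) : Conj J g g :=
  ⟨1, Iso.one J, by simp [adjH, Hm_sq]⟩

theorem Conj.trans {g g' g'' : 𝕄} (h : Conj J g g') (h' : Conj J g' g'') : Conj J g g'' := by
  obtain ⟨u, hu, rfl⟩ := h
  obtain ⟨v, hv, rfl⟩ := h'
  refine ⟨v * u, hv.mul J hu, ?_⟩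
  have e : adjH J (v * u) = adjH J u * adjH J v := by
    simp only [adjH, sad_mul, Matrix.mul_assoc]
    rw [← Matrix.mul_assoc (Hm : 𝕄) 𝓗 (sad J v * 𝓗), Hm_sq, Matrix.one_mul]
  rw [e]; simp only [Matrix.mul_assoc]

theorem Conj.iso {g g' : 𝕄} (h : Conj J g g') (hg : Iso J 𝓗 g) : Iso J 𝓗 g' := by
  obtain ⟨u, hu, rfl⟩ := h
  exact (hu.mul J hg).mul J (hu.adjH J)

theorem Conj.det {g g' : 𝕄} (h : Conj J g g') : g'.det = g.det := by
  obtain ⟨u, hu, rfl⟩ := h
  exact det_conj (adjH_mul J hu) (mul_adjH J hu) g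

theorem Conj.isC {g g' : 𝕄} (h : Conj J g g') (hc : IsC J 𝓗 g') : IsC J 𝓗 g := by
  obtain ⟨u, hu, rfl⟩ := h
  refine hc.transport J (Y := u) (Z := adjH J u) (mul_adjH J hu) (adjH_mul J hu) hu ?_
  simp only [← Matrix.mul_assoc]
  rw [adjH_mul J hu, Matrix.one_mul, Matrix.mul_assoc, adjH_mul J hu, Matrix.mul_one]

/-- The first block column. -/
def Col (g : 𝕄) (A : Matrix (Fin m) (Fin m) K) (b : Matrix (Fin k) (Fin m) K) (C : Matrix (Fin m) (Fin m) K) :
    Prop := ∃ a12 a13 e f h i, g = mk A a12 a13 b e f C h i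

/-- The column condition of an isometry. -/
theorem Col.rel {g : 𝕄} {A : Matrix (Fin m) (Fin m) K} {b : Matrix (Fin k) (Fin m) K}
    {C : Matrix (Fin m) (Fin m) K} (hc : Col g A b C) (hg : Iso J 𝓗 g) :
    sad J C * A + sad J b * b + sad J A * C = 0 := by
  obtain ⟨a12, a13, e, f, h, i, rfl⟩ := hc
  have := hg
  simp only [Iso, Hm, sad_mk, mk_mul, mk_inj, Matrix.mul_zero, Matrix.zero_mul, Matrix.mul_one, add_zero,
    zero_add] at this
  exact this.1

/-- An upper unitriangular element. -/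
def up (v : Matrix (Fin m) (Fin k) K) (T : Matrix (Fin m) (Fin m) K) : 𝕄 := mk 1 v T 0 1 (-sad J v) 0 0 1

theorem iso_up {v : Matrix (Fin m) (Fin k) K} {T : Matrix (Fin m) (Fin m) K}
    (h : T + sad J T + v * sad J v = 0) : Iso J 𝓗 (up J v T) := by
  simp [Iso, up, Hm, sad_mk, mk_mul, mk_inj]
  rw [← h]; abel

/-- One move. -/
theorem Col.move {g : 𝕄} {A : Matrix (Fin m) (Fin m) K} {b : Matrix (Fin k) (Fin m) K}
    {C : Matrix (Fin m) (Fin m) K} (hc : Col g A b C) {v : Matrix (Fin m) (Fin k) K}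
    {T : Matrix (Fin m) (Fin m) K} (h : T + sad J T + v * sad J v = 0) :
    ∃ g', Conj J g g' ∧ Col g' (A + v * b + T * C) (b - sad J v * C) C := by
  obtain ⟨a12, a13, e, f, h', i, rfl⟩ := hc
  refine ⟨_, ⟨up J v T, iso_up J h, rfl⟩, ?_⟩
  simp only [adjH, up, Hm, sad_mk, mk_mul]
  refine ⟨_, _, _, _, _, _, mk_inj.2 ⟨?_, rfl, rfl, ?_, rfl, rfl, ?_, rfl, rfl⟩⟩ <;>
    simp [sub_eq_add_neg, Matrix.neg_mul]

theorem sad_mul_self_eq_zero (hk : k ≤ 1) {ι : Type*} {x : Matrix (Fin k) ι K} (h : sad J x * x = 0) : x = 0 := by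
  ext r i
  have hr : ∀ s : Fin k, s = r := fun s => by ext; omega
  have := congrFun (congrFun h i) i
  rw [Matrix.mul_apply, Fintype.sum_eq_single r (fun s hs => absurd (hr s) hs)] at this
  rcases mul_eq_zero.1 this with h0 | h0
  · simpa [sad] using h0
  · exact h0

theorem Col.zero (hk : k ≤ 1) {g : 𝕄} {A : Matrix (Fin m) (Fin m) K} {b : Matrix (Fin k) (Fin m) K}
    (hc : Col g A b 0) (hg : Iso J 𝓗 g) : b = 0 :=
  sad_mul_self_eq_zero J hk (by simpa using hc.rel J hg)

theorem scalar_of_comm {A : Matrix (Fin m) (Fin m) K} (h : ∀ M : Matrix (Fin m) (Fin m) K, M * A = A * M) :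
    ∃ a : K, A = a • 1 := by
  obtain ⟨a, ha⟩ := Matrix.mem_range_scalar_iff_commute_single.2 fun i j (_ : i ≠ j) => h (Matrix.single i j 1)
  exact ⟨a, by rw [← ha, Matrix.scalar_apply, Matrix.smul_one_eq_diagonal]⟩

theorem eq_smul_one (hk : k ≤ 1) (R : Matrix (Fin k) (Fin k) K) : R = R.det • 1 := by
  interval_cases k
  · exact Subsingleton.elim _ _
  · ext i j
    rw [Subsingleton.elim i 0, Subsingleton.elim j 0, det_fin_one]
    simp

/-- Step zero: the lower corner can be made nonzero. -/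
theorem exists_corner (hm : 1 ≤ m) (hk : k ≤ 1) {g : 𝕄} (hg : Iso J 𝓗 g) (hns : ∀ e : K, g ≠ e • 1) :
    ∃ g' A b C, Conj J g g' ∧ Col g' A b C ∧ C ≠ 0 := by
  by_contra hcon
  push Not at hcon
  have hcon : ∀ g' A b C, Conj J g g' → Col g' A b C → C = 0 := hcon
  -- all conjugates are block diagonal
  have hdiag : ∀ g', Conj J g g' → ∃ A R D, g' = mk A 0 0 0 R 0 0 0 D := by
    intro g' hc
    have hi := hc.iso J hg
    obtain ⟨A, a12, a13, b, R, f, C, h, D, rfl⟩ := exists_eq_mk g'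
    obtain rfl := hcon _ A b C hc ⟨a12, a13, R, f, h, D, rfl⟩
    obtain rfl : b = 0 := Col.zero J hk ⟨a12, a13, R, f, h, D, rfl⟩ hi
    have hH : Iso J 𝓗 𝓗 := by rw [Iso, sad_Hm, Hm_sq, Matrix.one_mul]
    have hc' : Conj J g (𝓗 * mk A a12 a13 0 R f 0 h D * adjH J 𝓗) := hc.trans J ⟨𝓗, hH, rfl⟩
    have e : 𝓗 * mk A a12 a13 0 R f 0 h D * adjH J 𝓗 = mk D h 0 f R 0 a13 a12 A := by
      rw [show adjH J 𝓗 = 𝓗 by simp [adjH, sad_Hm, Hm_sq]]
      simp [Hm, mk_mul]
    rw [e] at hc'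
    obtain rfl := hcon _ D f a13 hc' ⟨h, 0, R, 0, a12, A, rfl⟩
    obtain rfl : f = 0 := Col.zero J hk ⟨h, 0, R, 0, a12, A, rfl⟩ (hc'.iso J hg)
    simp [Iso, Hm, sad_mk, mk_mul, mk_inj] at hi
    obtain ⟨e2, e3, e4, -, e6, e7, e8⟩ := hi
    have hA : sad J D * A = 1 := by first | exact e7 | exact e6 | exact e8
    have hA' : A * sad J D = 1 := mul_eq_one_comm.1 hA
    refine ⟨A, R, D, mk_inj.2 ⟨rfl, ?_, rfl, rfl, rfl, rfl, rfl, ?_, rfl⟩⟩
    · have : sad J D * a12 = 0 := by first | exact e7 | exact e6 | exact e4 | exact e8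
      simpa [← Matrix.mul_assoc, hA'] using congrArg (A * ·) this
    · have : sad J A * h = 0 := by first | exact e2 | exact e3 | exact e4
      have hDA : D * sad J A = 1 := by
        apply mul_eq_one_comm.1
        simpa [sad_mul] using congrArg (sad J) hA
      simpa [← Matrix.mul_assoc, hDA] using congrArg (D * ·) this
  obtain ⟨A, R, D, hgd⟩ := hdiag g (Conj.refl J g)
  -- a move keeps it diagonal
  have key : ∀ (v : Matrix (Fin m) (Fin k) K) (T : Matrix (Fin m) (Fin m) K),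
      T + sad J T + v * sad J v = 0 → v * R = A * v ∧ (v = 0 → T * D + A * sad J T = 0) := by
    intro v T hT
    have hc : Conj J g (up J v T * g * adjH J (up J v T)) := ⟨_, iso_up J hT, rfl⟩
    obtain ⟨A', R', D', e⟩ := hdiag _ hc
    rw [hgd] at e
    simp [adjH, up, Hm, sad_mk, mk_mul, mk_inj] at e
    obtain ⟨e1, e2, e3, -⟩ := e
    refine ⟨?_, fun hv => ?_⟩
    · linear_combination (norm := abel) (1 : ℤ) • e2
    · subst hv
      simp at e3
      linear_combination (norm := abel) (1 : ℤ) • e3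
  -- skew moves
  have hskew : ∀ T : Matrix (Fin m) (Fin m) K, sad J T = -T → T * D = A * T := fun T hT => by
    have := (key 0 T (by simp [hT])).2 rfl
    rw [hT, Matrix.mul_neg, add_neg_eq_zero] at this
    exact this
  obtain ⟨θ, hθ⟩ := J.exists_moved
  have hall : ∀ M : Matrix (Fin m) (Fin m) K, M * D = A * M := fun M => by
    have h1 := hskew (M - sad J M) (by simp)
    have h2 := hskew (θ • M - J.σ θ • sad J M) (by simp [J.σσ])
    simp only [Matrix.sub_mul, Matrix.mul_sub, Matrix.smul_mul, Matrix.mul_smul] at h1 h2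
    have h3 : (θ - J.σ θ) • (M * D - A * M) = 0 := by
      have h1' := congrArg (fun N => J.σ θ • N) h1
      simp only [smul_sub] at h1'
      linear_combination (norm := module) h2 - h1'
    exact sub_eq_zero.1 ((smul_eq_zero.1 h3).resolve_left (sub_ne_zero.2 (Ne.symm hθ)))
  have hDA : D = A := by simpa using hall 1
  obtain ⟨a, ha⟩ := scalar_of_comm (fun M => by simpa [hDA] using hall M)
  -- middle moves
  obtain ⟨t, ht⟩ := J.exists_trace_one
  have hmid : ∀ v : Matrix (Fin m) (Fin k) K, v * R = a • v := fun v => by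
    rw [(key v (-t • (v * sad J v)) (by
      rw [sad_smul, sad_mul, sad_sad, map_neg, ← add_smul, show -t + -J.σ t = -1 by linear_combination -ht,
        neg_one_smul, neg_add_cancel])).1, ha, Matrix.smul_mul, Matrix.one_mul]
  have hR : R = a • 1 := by
    ext r s
    have := congrFun (congrFun (hmid (Matrix.single (⟨0, hm⟩ : Fin m) r 1)) ⟨0, hm⟩) s
    simpa [Matrix.single_mul_apply_same, Matrix.single_apply, Matrix.one_apply] using this
  exact hns a (by rw [hgd, hDA, ha, hR, smul_one_eq_mk])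

theorem replicateCol_ne_zero {y : Fin m → K} (h : y ≠ 0) : Matrix.replicateCol (Fin 1) y ≠ 0 := fun e =>
  h (funext fun i => congrFun (congrFun e i) 0)

/-- Two proper linear conditions can be met at once. -/
theorem exists_avoid {V : Type*} [AddCommGroup V] [Module K V] (W : Submodule K V) (hW : W ≠ ⊤) (φ : V → K)
    (hφ : ∀ x y, φ (x + y) = φ x + φ y) (hne : ∃ x, φ x ≠ 0) : ∃ y, y ∉ W ∧ φ y ≠ 0 := by
  obtain ⟨y2, h2⟩ := hne
  obtain ⟨y1, h1⟩ : ∃ y, y ∉ W := by
    by_contra hc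
    push Not at hc
    exact hW (Submodule.eq_top_iff'.2 hc)
  by_cases h1' : φ y1 = 0
  · by_cases h2' : y2 ∈ W
    · exact ⟨y1 + y2, fun h => h1 ((Submodule.add_mem_iff_left W h2').1 h), by rwa [hφ, h1', zero_add]⟩
    · exact ⟨y2, h2', h2⟩
  · exact ⟨y1, h1, h1'⟩

/-- Step one: the first entry can be made invertible. -/
theorem exists_invertible (hk : k ≤ 1) {g : 𝕄} {A : Matrix (Fin m) (Fin m) K} {b : Matrix (Fin k) (Fin m) K}
    {C : Matrix (Fin m) (Fin m) K} (hc : Col g A b C) (hg : Iso J 𝓗 g) (hd : g.det ≠ 0) :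
    ∃ g' A', Conj J g g' ∧ Col g' A' b C ∧ A'.det ≠ 0 := by
  classical
  induction hn : Module.finrank K (LinearMap.ker A.mulVecLin) using Nat.strong_induction_on generalizing g A with
  | _ n ih =>
  subst hn
  by_cases hA : A.det = 0
  swap
  · exact ⟨g, A, Conj.refl J g, hc, hA⟩
  obtain ⟨x, hx0, hx⟩ := Matrix.exists_mulVec_eq_zero_iff.2 hA
  have hb : b *ᵥ x = 0 := by
    have h := hc.rel J hg
    have h' : sad J (b * replicateCol (Fin 1) x) * (b * replicateCol (Fin 1) x) = 0 := by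
      have := congrArg (fun M => sad J (replicateCol (Fin 1) x) * M * replicateCol (Fin 1) x) h
      have hAx : A * replicateCol (Fin 1) x = 0 := by rw [← replicateCol_mulVec, hx]; rfl
      have hAx' : sad J (replicateCol (Fin 1) x) * sad J A = 0 := by rw [← sad_mul, hAx, sad_zero]
      simp only [Matrix.mul_add, Matrix.add_mul, Matrix.mul_assoc, hAx, Matrix.mul_zero, Matrix.zero_mul,
        zero_add] at this
      rw [← Matrix.mul_assoc (sad J (replicateCol (Fin 1) x)) (sad J A), hAx', Matrix.zero_mul, add_zero] at this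
      rw [sad_mul, Matrix.mul_assoc]; exact this
    ext r
    have := congrFun (congrFun (sad_mul_self_eq_zero J hk h') r) 0
    rwa [← replicateCol_mulVec] at this
  have hCx : C *ᵥ x ≠ 0 := fun hC => by
    obtain ⟨a12, a13, e, f, h', i, rfl⟩ := hc
    refine hd (Matrix.exists_mulVec_eq_zero_iff.1 ⟨Sum.elim x 0, fun e' => hx0 ?_, ?_⟩)
    · funext r; exact congrFun e' (Sum.inl r)
    · rw [mk, fromBlocks_mulVec]
      funext r
      rcases r with r | r | r <;>
        simp [mulVec_zero, fromRows_mulVec, hx, hb, hC]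
  obtain ⟨i, hi⟩ := Function.ne_iff.1 hCx
  obtain ⟨y, hy, hy'⟩ := exists_avoid (LinearMap.range A.mulVecLin) (fun htop => by
      have hinj : Function.Injective A.mulVecLin :=
        LinearMap.injective_iff_surjective.2 (LinearMap.range_eq_top.1 htop)
      exact hx0 (hinj (by simp [hx])))
    (fun y => (J.σ ∘ y) ⬝ᵥ (C *ᵥ x))
    (fun a b => by
      show (J.σ ∘ (a + b)) ⬝ᵥ _ = _
      rw [show J.σ ∘ (a + b) = J.σ ∘ a + J.σ ∘ b from funext fun r => map_add J.σ _ _, add_dotProduct])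
    ⟨Pi.single i 1, by
      have e : J.σ ∘ (Pi.single i (1 : K) : Fin m → K) = Pi.single i 1 := funext fun r => by
        by_cases hr : r = i <;> simp [hr]
      show (J.σ ∘ (Pi.single i (1 : K) : Fin m → K)) ⬝ᵥ _ ≠ 0
      rw [e, single_one_dotProduct]; exact hi⟩
  obtain ⟨t, ht0, ht⟩ := J.exists_skew
  set T : Matrix (Fin m) (Fin m) K := t • vecMulVec y (J.σ ∘ y) with hTdef
  have hTs : sad J T = -T := by
    rw [hTdef, sad_smul, ht, neg_smul]
    congr 2
    ext r s; simp [sad, vecMulVec_apply, J.σσ, mul_comm]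
  obtain ⟨g', hgg', hc'⟩ := hc.move J (v := 0) (T := T) (by simp [hTs])
  simp only [Matrix.zero_mul, add_zero, sad_zero, sub_zero] at hc'
  have hTz : ∀ z, (A + T * C) *ᵥ z = A *ᵥ z + (t * ((J.σ ∘ y) ⬝ᵥ (C *ᵥ z))) • y := fun z => by
    rw [add_mulVec, hTdef, ← mulVec_mulVec, smul_mulVec, vecMulVec_mulVec, op_smul_eq_smul, smul_smul]
  have hlt : LinearMap.ker (A + T * C).mulVecLin < LinearMap.ker A.mulVecLin := by
    refine lt_of_le_of_ne (fun z hz => ?_) (fun e => ?_)
    · rw [LinearMap.mem_ker, mulVecLin_apply, hTz] at hz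
      rw [LinearMap.mem_ker, mulVecLin_apply]
      set w := t * ((J.σ ∘ y) ⬝ᵥ (C *ᵥ z))
      by_cases hw : w = 0
      · rw [hw, zero_smul, add_zero] at hz; exact hz
      · exact absurd ⟨-w⁻¹ • z, by
          rw [mulVecLin_apply, mulVec_smul, eq_neg_of_add_eq_zero_left hz, smul_neg, neg_smul, neg_neg, smul_smul,
            inv_mul_cancel₀ hw, one_smul]⟩ hy
    · have hxm : x ∈ LinearMap.ker A.mulVecLin := by simpa using hx
      rw [← e, LinearMap.mem_ker, mulVecLin_apply, hTz, hx, zero_add, smul_eq_zero] at hxm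
      rcases hxm with h | h
      · exact mul_ne_zero ht0 hy' h
      · exact hy (h ▸ Submodule.zero_mem _)
  obtain ⟨g'', A'', h1, h2, h3⟩ := ih _ (Submodule.finrank_lt_finrank_of_lt hlt) hc' (hgg'.iso J hg)
    (by rw [hgg'.det J]; exact hd) rfl
  exact ⟨g'', A'', hgg'.trans J h1, h2, h3⟩

/-- The decomposition once the first entry is invertible. -/
theorem exists_decomp (hk : k ≤ 1) {g : 𝕄} {A : Matrix (Fin m) (Fin m) K} {b : Matrix (Fin k) (Fin m) K}
    {C : Matrix (Fin m) (Fin m) K} (hc : Col g A b C) (hg : Iso J 𝓗 g) {Ai : Matrix (Fin m) (Fin m) K}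
    (hA : Ai * A = 1) :
    ∃ l x r, Low J l ∧ Upp J x ∧ g = l * lev J A Ai r * x ∧ J.σ r * r = 1 ∧
      g.det = A.det * (r ^ k * J.σ Ai.det) ∧ r ^ k = r := by
  have hA' : A * Ai = 1 := mul_eq_one_comm.1 hA
  have hrel := hc.rel J hg
  have hs : sad J Ai * sad J A = 1 := by rw [← sad_mul, hA', sad_one]
  set S := C * Ai with hS
  set β := b * Ai with hβ
  have hS2 : S + sad J S + sad J β * β = 0 := by
    have := congrArg (fun M => sad J Ai * M * Ai) hrel
    simp only [Matrix.mul_add, Matrix.add_mul, Matrix.mul_assoc, hA', Matrix.mul_one, Matrix.mul_zero,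
      Matrix.zero_mul] at this
    rw [← Matrix.mul_assoc (sad J Ai) (sad J A), hs, Matrix.one_mul] at this
    rw [hS, hβ, sad_mul, sad_mul, Matrix.mul_assoc, ← this]; abel
  set l : 𝕄 := mk 1 0 0 β 1 0 S (-sad J β) 1 with hl
  have hli : Iso J 𝓗 l := by
    simp [Iso, hl, Hm, sad_mk, mk_mul, mk_inj]
    rw [← hS2]; abel
  have hlow : Low J l := ⟨hli, β, S, _, rfl⟩
  obtain ⟨d, G, h, hli'⟩ := (hlow.adjH J).2
  obtain ⟨a12, a13, e, f, h', i, hgm⟩ := hc
  have hg2 : Iso J 𝓗 (adjH J l * g) := (hli.adjH J).mul J hg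
  obtain ⟨A0, c12, c13, c21, R, c23, c31, c32, D, he⟩ := exists_eq_mk (adjH J l * g)
  have hge : g = l * mk A0 c12 c13 c21 R c23 c31 c32 D := by
    rw [← he, ← Matrix.mul_assoc, mul_adjH J hli, Matrix.one_mul]
  have hcol := hge
  rw [hgm, hl, mk_mul, mk_inj] at hcol
  obtain ⟨q1, -, -, q4, -, -, q7, -, -⟩ := hcol
  simp only [Matrix.one_mul, Matrix.zero_mul, add_zero] at q1 q4 q7
  subst q1
  rw [hβ, Matrix.mul_assoc, hA, Matrix.mul_one, left_eq_add] at q4
  subst q4
  rw [hS, Matrix.mul_assoc, hA, Matrix.mul_one, Matrix.mul_zero, add_zero, left_eq_add] at q7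
  subst q7
  rw [he] at hg2
  simp [Iso, Hm, sad_mk, mk_mul, mk_inj] at hg2
  obtain ⟨e2, e3, e4, e5, -⟩ := hg2
  have h32 : c32 = 0 := by simpa [← Matrix.mul_assoc, hs] using congrArg (sad J Ai * ·) e2
  subst h32
  have hD : D = sad J Ai := by simpa [← Matrix.mul_assoc, hs] using congrArg (sad J Ai * ·) e3
  have hR : sad J R * R = 1 := by simpa using e5
  have hr : J.σ R.det * R.det = 1 := by rw [← det_sad, ← det_mul, hR, det_one]
  have hRe := eq_smul_one hk R
  have hrk : R.det ^ k = R.det := by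
    conv_rhs => rw [hRe]
    rw [det_smul, det_one, mul_one, Fintype.card_fin]
  set r := R.det
  have hrr : r * J.σ r = 1 := by rw [mul_comm]; exact hr
  set x : 𝕄 := lev J Ai A (J.σ r) * mk A c12 c13 0 R c23 0 0 D with hx
  have hlx : (lev J A Ai r : 𝕄) * x = mk A c12 c13 0 R c23 0 0 D := by
    rw [hx, ← Matrix.mul_assoc, lev_mul, hA', hrr, lev_one, Matrix.one_mul]
  have hupp : Upp J x := by
    refine ⟨(iso_lev J hA' (by rw [J.σσ]; exact hrr)).mul J (he ▸ (hli.adjH J).mul J hg), Ai * c12, Ai * c13,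
      J.σ r • c23, ?_⟩
    rw [hx, lev, mk_mul, hD, hRe]
    simp [mk_inj, hA, smul_smul, hrr, ← sad_mul]
  refine ⟨l, x, r, hlow, hupp, by rw [hge, Matrix.mul_assoc, hlx], hr, ?_, hrk⟩
  rw [hge, ← hlx, det_mul, det_mul, hlow.det, hupp.det, det_lev, one_mul, mul_one, Fintype.card_fin]

end CfsgLib.SUComm
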