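import Cfsg.Agent.Lib.SUComm.Fix

/-!
The normal form: Levi part of determinant one, equal to one or nonscalar, and over the field with four elements
not a transvection.
-/

set_option autoImplicit false
set_option linter.unusedSectionVars false

namespace CfsgLib.SUComm

open Matrix Polynomial

universe u

variable {K : Type u} [Field K] [Fintype K] (J : Cj K) {m k : ℕ}

local notation "𝕄" => Matrix (Idx m k) (Idx m k) K
local notation "𝓗" => (Hm : Matrix (Idx m k) (Idx m k) K)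

/-- The row of a matrix with at most one row. -/
def rowv (β : Matrix (Fin k) (Fin m) K) : Fin m → K := fun i => ∑ r, β r i

theorem rowv_eq_zero (hk : k ≤ 1) {β : Matrix (Fin k) (Fin m) K} (h : rowv β = 0) : β = 0 := by
  ext r i
  have := congrFun h i
  rw [rowv, Fintype.sum_eq_single r (fun s hs => absurd (Fin.ext (by omega)) hs)] at this
  exact this

theorem sad_mul_rowv (hk : k ≤ 1) (β : Matrix (Fin k) (Fin m) K) :
    sad J β * β = vecMulVec (J.σ ∘ rowv β) (rowv β) := by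
  ext i j
  interval_cases k <;> simp [Matrix.mul_apply, sad, rowv, vecMulVec_apply]

/-- The quotient data of a column with invertible first entry. -/
theorem col_data (hk : k ≤ 1) {g : 𝕄} {A : Matrix (Fin m) (Fin m) K} {b : Matrix (Fin k) (Fin m) K}
    {C : Matrix (Fin m) (Fin m) K} (hc : Col g A b C) (hg : Iso J 𝓗 g) {Ai : Matrix (Fin m) (Fin m) K}
    (hA : Ai * A = 1) :
    C * Ai + sad J (C * Ai) + vecMulVec (J.σ ∘ rowv (b * Ai)) (rowv (b * Ai)) = 0 := by
  have hA' : A * Ai = 1 := mul_eq_one_comm.1 hA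
  have hs : sad J Ai * sad J A = 1 := by rw [← sad_mul, hA', sad_one]
  have := congrArg (fun M => sad J Ai * M * Ai) (hc.rel J hg)
  simp only [Matrix.mul_add, Matrix.add_mul, Matrix.mul_assoc, hA', Matrix.mul_one, Matrix.mul_zero,
    Matrix.zero_mul] at this
  rw [← Matrix.mul_assoc (sad J Ai) (sad J A), hs, Matrix.one_mul] at this
  rw [← sad_mul_rowv J hk, sad_mul, sad_mul, Matrix.mul_assoc, ← this]
  abel

/-- A rank one move, applied. -/
theorem apply_mv (hk : k ≤ 1) {g : 𝕄} {A : Matrix (Fin m) (Fin m) K} {b : Matrix (Fin k) (Fin m) K}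
    {C : Matrix (Fin m) (Fin m) K} (hc : Col g A b C) {Ai : Matrix (Fin m) (Fin m) K} (hA : Ai * A = 1)
    {Y r : Fin m → K} (h : Mv J (C * Ai) (rowv (b * Ai)) Y r) :
    ∃ g' b', Conj J g g' ∧ Col g' ((1 + vecMulVec Y r) * A) b' C := by
  have hb : b * Ai * A = b := by rw [Matrix.mul_assoc, hA, Matrix.mul_one]
  have hC : C * Ai * A = C := by rw [Matrix.mul_assoc, hA, Matrix.mul_one]
  have hsadvec : ∀ x y : Fin m → K, sad J (vecMulVec x (J.σ ∘ y)) = vecMulVec y (J.σ ∘ x) := fun x y => by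
    ext i j; simp [sad, vecMulVec_apply, J.σσ, mul_comm]
  rcases h with ⟨ν, τ, hτ, hν, rfl⟩ | ⟨y, hY, hb0, rfl⟩
  · let v : Matrix (Fin m) (Fin k) K := Matrix.of fun i _ => ν * Y i
    have hv1 : v * (b * Ai) = ν • vecMulVec Y (rowv (b * Ai)) := by
      ext i j; simp [v, Matrix.mul_apply, rowv, vecMulVec_apply, Finset.mul_sum, mul_assoc]
    have hv2 : v * sad J v = (ν * J.σ ν) • vecMulVec Y (J.σ ∘ Y) := by
      interval_cases k
      · rw [hν (funext fun i => by simp [rowv]), zero_mul, zero_smul]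
        ext i j; simp [Matrix.mul_apply]
      · ext i j; simp [v, sad, Matrix.mul_apply, vecMulVec_apply]; ring
    obtain ⟨g', h1, h2⟩ := hc.move J (v := v) (T := τ • vecMulVec Y (J.σ ∘ Y)) (by
      rw [sad_smul, hsadvec, hv2, ← add_smul, ← add_smul, hτ, zero_smul])
    refine ⟨g', b - sad J v * C, h1, ?_⟩
    convert h2 using 1
    rw [Matrix.add_mul, Matrix.one_mul, vecMulVec_add, vecMulVec_smul, vecMulVec_smul, Matrix.add_mul,
      ← hv1, ← vecMulVec_mul, Matrix.mul_assoc v, hb, Matrix.smul_mul τ, Matrix.mul_assoc _ _ A, hC,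
      Matrix.smul_mul, add_assoc]
  · obtain ⟨g', h1, h2⟩ := hc.move J (v := 0) (T := vecMulVec Y (J.σ ∘ y) - vecMulVec y (J.σ ∘ Y)) (by
      rw [sad_sub, hsadvec, hsadvec, sad_zero, Matrix.zero_mul]; abel)
    refine ⟨g', b - sad J (0 : Matrix (Fin m) (Fin k) K) * C, h1, ?_⟩
    convert h2 using 1
    rw [Matrix.zero_mul, add_zero, Matrix.add_mul, Matrix.one_mul, ← vecMulVec_mul, Matrix.mul_assoc _ _ A, hC,
      Matrix.sub_mul, vecMulVec_mul y, show (J.σ ∘ Y) ᵥ* C = 0 by rw [← hC, ← vecMul_vecMul, hY, zero_vecMul]]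
    simp

theorem det_one_add_vecMulVec' (Y r : Fin m → K) : (1 + vecMulVec Y r).det = 1 + r ⬝ᵥ Y := by
  rw [vecMulVec_eq (Fin 1), det_one_add_replicateCol_mul_replicateRow]

/-- The determinant of the first entry can be made one. -/
theorem exists_det_one (hk : k ≤ 1) {g : 𝕄} {A : Matrix (Fin m) (Fin m) K} {b : Matrix (Fin k) (Fin m) K}
    {C : Matrix (Fin m) (Fin m) K} (hc : Col g A b C) (hg : Iso J 𝓗 g) (hgd : g.det = 1) (hA0 : A.det ≠ 0)
    (hC : C ≠ 0) (hb : k = 0 ∨ b ≠ 0) : ∃ g' A' b', Conj J g g' ∧ Col g' A' b' C ∧ A'.det = 1 := by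
  set Ai := A⁻¹
  have hA : Ai * A = 1 := Matrix.nonsing_inv_mul _ (isUnit_iff_ne_zero.2 hA0)
  set bv := rowv (b * Ai) with hbv
  have hS := col_data J hk hc hg hA
  rw [← hbv] at hS
  set S := C * Ai with hSdef
  have hS0 : S ≠ 0 := fun e => hC (by
    rw [show C = S * A by rw [hSdef, Matrix.mul_assoc, hA, Matrix.mul_one], e, Matrix.zero_mul])
  set E := A.det⁻¹ - 1 with hE
  suffices h : ∃ Y r, Mv J S bv Y r ∧ r ⬝ᵥ Y = E by
    obtain ⟨Y, r, h1, h2⟩ := h
    obtain ⟨g', b', h3, h4⟩ := apply_mv J hk hc hA h1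
    exact ⟨g', _, b', h3, h4, by rw [det_mul, det_one_add_vecMulVec', h2, hE, add_sub_cancel, inv_mul_cancel₀ hA0]⟩
  rcases hb with rfl | hb
  · have hbv0 : bv = 0 := funext fun i => by simp [hbv, rowv]
    have hfix : J.σ E = E := by
      obtain ⟨l, x, r, -, -, -, -, hd, -⟩ := exists_decomp J hk hc hg hA
      rw [hgd, pow_zero, one_mul] at hd
      have h1 : Ai.det * A.det = 1 := by rw [← det_mul, hA, det_one]
      have h2 : J.σ Ai.det = A.det⁻¹ := eq_inv_of_mul_eq_one_right hd.symm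
      rw [eq_inv_of_mul_eq_one_left h1] at h2
      rw [hE, map_sub, map_one, h2]
    obtain ⟨y, hy⟩ : ∃ y, sf J S y y ≠ 0 := by
      by_contra hc'
      push Not at hc'
      refine hS0 (Matrix.ext fun i j => ?_)
      have := sf_polar hS (W := ⊤) (fun x _ => by simp [hbv0]) (fun x _ => hc' x)
        (Submodule.mem_top (x := Pi.single i 1)) (Submodule.mem_top (x := Pi.single j 1))
      rw [sf, show J.σ ∘ (Pi.single i (1 : K) : Fin m → K) = Pi.single i 1 from funext fun r => by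
        by_cases hr : r = i <;> simp [hr], Matrix.single_one_vecMul, dotProduct_single_one] at this
      exact this
    refine ⟨y, _, Or.inl ⟨0, E / sf J S y y, ?_, fun _ => rfl, rfl⟩, ?_⟩
    · have hsk := sf_swap hS y y
      rw [hbv0] at hsk
      simp only [zero_dotProduct, map_zero, mul_zero, add_zero] at hsk
      rw [map_div₀, hfix, eq_neg_of_add_eq_zero_right hsk, div_neg, map_zero]
      ring
    · rw [zero_smul, zero_add, smul_dotProduct]
      show E / sf J S y y * sf J S y y = E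
      exact div_mul_cancel₀ _ hy
  · have hbv0 : bv ≠ 0 := fun e => hb (by
      have e' : b * Ai = 0 := rowv_eq_zero hk (by rw [← hbv]; exact e)
      rw [← Matrix.mul_one b, ← hA, ← Matrix.mul_assoc, e', Matrix.zero_mul])
    obtain ⟨i, hi⟩ := Function.ne_iff.1 hbv0
    set Y : Fin m → K := Pi.single i 1
    set b0 := bv ⬝ᵥ Y with hb0
    have hb00 : b0 ≠ 0 := by simpa [hb0, Y] using hi
    set h := sf J S Y Y with hh
    have hrel := sf_swap hS Y Y
    rw [← hh, ← hb0] at hrel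
    have hh0 : h ≠ 0 := fun e => by
      rw [e] at hrel
      simp [hb00] at hrel
    have hσh0 : J.σ h ≠ 0 := by simpa using hh0
    obtain ⟨w, hw⟩ := J.exists_norm (r := (b0 * J.σ b0 - E * J.σ h - J.σ E * h) / (h * J.σ h)) (by
      simp only [map_div₀, map_sub, map_mul, J.σσ]; ring)
    set ν := w + J.σ b0 / J.σ h with hν
    refine ⟨Y, _, Or.inl ⟨ν, (E - ν * b0) / h, ?_, fun e => absurd e hbv0, rfl⟩, ?_⟩
    · rw [eq_div_iff (mul_ne_zero hh0 hσh0)] at hw
      simp only [hν, map_div₀, map_sub, map_add, map_mul, J.σσ]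
      field_simp
      first
        | linear_combination (J.σ h * h) * hw
        | linear_combination hw
        | linear_combination (J.σ h) * hw
        | linear_combination h * hw
    · rw [add_dotProduct, smul_dotProduct, smul_dotProduct, ← hb0]
      show ν * b0 + (E - ν * b0) / h * h = E
      rw [div_mul_cancel₀ _ hh0]; ring

theorem exists_vecMulVec_of_rank_le_one {M : Matrix (Fin m) (Fin m) K} (h : M.rank ≤ 1) (h0 : M ≠ 0) :
    ∃ p w : Fin m → K, p ≠ 0 ∧ w ≠ 0 ∧ M = vecMulVec p w := by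
  obtain ⟨i, j, hij⟩ : ∃ i j, M i j ≠ 0 := by
    by_contra hc
    push Not at hc
    exact h0 (Matrix.ext hc)
  set p := M *ᵥ Pi.single j 1 with hp
  have hp0 : p ≠ 0 := fun e => hij (by simpa [hp] using congrFun e i)
  have hr : Submodule.span K {p} = LinearMap.range M.mulVecLin := by
    refine Submodule.eq_of_le_of_finrank_le ?_ ?_
    · rw [Submodule.span_singleton_le_iff_mem]; exact ⟨_, rfl⟩
    · rw [finrank_span_singleton hp0]; exact h
  have hex : ∀ l, ∃ c : K, c • p = M *ᵥ Pi.single l 1 := fun l =>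
    Submodule.mem_span_singleton.1 (hr ▸ ⟨_, rfl⟩)
  choose w hw using hex
  have hM : M = vecMulVec p w := Matrix.ext fun a l => by
    have := congrFun (hw l) a
    simp at this
    rw [vecMulVec_apply, ← this, mul_comm]
  exact ⟨p, w, hp0, fun e => h0 (by rw [hM, e, vecMulVec_zero]), hM⟩

theorem two_le_rank {Y r p w : Fin m → K} (hY : ∀ c : K, Y ≠ c • p) (hp : p ≠ 0) (hr : ∀ c : K, r ≠ c • w)
    (hw : w ≠ 0) : 2 ≤ (vecMulVec Y r + vecMulVec p w).rank := by
  set M := vecMulVec Y r + vecMulVec p w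
  have hM : ∀ z, M *ᵥ z = (r ⬝ᵥ z) • Y + (w ⬝ᵥ z) • p := fun z => by
    simp [M, add_mulVec, vecMulVec_mulVec]
  have hr0 : r ≠ 0 := fun e => hr 0 (by rw [e, zero_smul])
  obtain ⟨z1, hz1, hz1'⟩ : ∃ z, w ⬝ᵥ z = 0 ∧ r ⬝ᵥ z ≠ 0 := by
    by_contra hc
    push Not at hc
    obtain ⟨c, hc'⟩ := eq_smul_of_ker hw hc
    exact hr c hc'
  obtain ⟨z2, hz2, hz2'⟩ : ∃ z, r ⬝ᵥ z = 0 ∧ w ⬝ᵥ z ≠ 0 := by
    by_contra hc
    push Not at hc
    obtain ⟨c, hc'⟩ := eq_smul_of_ker hr0 hc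
    have hc0 : c ≠ 0 := fun h => hw (by rw [hc', h, zero_smul])
    exact hr c⁻¹ (by rw [hc', smul_smul, inv_mul_cancel₀ hc0, one_smul])
  have hli : LinearIndependent K ![p, Y] := (LinearIndependent.pair_iff' hp).2 fun a e => hY a e.symm
  have hle : Submodule.span K (Set.range ![p, Y]) ≤ LinearMap.range M.mulVecLin := by
    rw [Submodule.span_le]
    rintro _ ⟨t, rfl⟩
    fin_cases t
    · refine ⟨(w ⬝ᵥ z2)⁻¹ • z2, ?_⟩
      rw [mulVecLin_apply, mulVec_smul, hM, hz2, zero_smul, zero_add, smul_smul, inv_mul_cancel₀ hz2', one_smul]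
      rfl
    · refine ⟨(r ⬝ᵥ z1)⁻¹ • z1, ?_⟩
      rw [mulVecLin_apply, mulVec_smul, hM, hz1, zero_smul, add_zero, smul_smul, inv_mul_cancel₀ hz1', one_smul]
      rfl
  have := Submodule.finrank_mono hle
  rwa [finrank_span_eq_card hli, Fintype.card_fin] at this

theorem one_add_vecMulVec_nonscalar (hm : 2 ≤ m) {Y r : Fin m → K} (hY : Y ≠ 0) (hr : r ≠ 0) (c : K) :
    1 + vecMulVec Y r ≠ c • (1 : Matrix (Fin m) (Fin m) K) := fun e => by
  obtain ⟨z, hz0, hz⟩ := exists_ker_ne_zero hm r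
  have h1 := congrArg (· *ᵥ z) e
  simp only [add_mulVec, one_mulVec, vecMulVec_mulVec, hz, MulOpposite.op_zero, zero_smul, add_zero, smul_mulVec] at h1
  have hc : c = 1 := by
    have : (1 - c) • z = 0 := by rw [sub_smul, one_smul, ← h1, sub_self]
    exact (sub_eq_zero.1 ((smul_eq_zero.1 this).resolve_right hz0)).symm
  rw [hc, one_smul, add_eq_left] at e
  obtain ⟨i, hi⟩ := Function.ne_iff.1 hY
  obtain ⟨j, hj⟩ := Function.ne_iff.1 hr
  exact mul_ne_zero hi hj (by simpa [vecMulVec_apply] using congrFun (congrFun e i) j)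

/-- What the normal form guarantees of the Levi part. -/
def Nice (A : Matrix (Fin m) (Fin m) K) : Prop :=
  A = 1 ∨ (∀ e : K, A ≠ e • 1) ∧ (J.q = 2 → 2 ≤ (A - 1).rank)

/-- Improving a state of determinant one. -/
theorem exists_nice (hm : 2 ≤ m) (hk : k ≤ 1) {g : 𝕄} {A : Matrix (Fin m) (Fin m) K} {b : Matrix (Fin k) (Fin m) K}
    {C : Matrix (Fin m) (Fin m) K} (hc : Col g A b C) (hg : Iso J 𝓗 g) (hA1 : A.det = 1) (hC : C ≠ 0) :
    ∃ g' A' b', Conj J g g' ∧ Col g' A' b' C ∧ A'.det = 1 ∧ Nice J A' := by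
  -- first make it nonscalar
  obtain ⟨g₁, A₁, b₁, hc₁, hcol₁, hd₁, hns⟩ : ∃ g₁ A₁ b₁, Conj J g g₁ ∧ Col g₁ A₁ b₁ C ∧ A₁.det = 1 ∧
      (A₁ = 1 ∨ ∀ e : K, A₁ ≠ e • 1) := by
    by_cases h : ∀ e : K, A ≠ e • 1
    · exact ⟨g, A, b, Conj.refl J g, hc, hA1, Or.inr h⟩
    push Not at h
    obtain ⟨a, ha⟩ := h
    have hu : IsUnit A.det := by rw [hA1]; exact isUnit_one
    have hA : A⁻¹ * A = 1 := Matrix.nonsing_inv_mul _ hu
    have hS0 : C * A⁻¹ ≠ 0 := fun e => hC (by
      rw [← Matrix.mul_one C, ← hA, ← Matrix.mul_assoc, e, Matrix.zero_mul])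
    obtain ⟨Y, r, h1, h2, h3⟩ := exists_fix hm (col_data J hk hc hg hA) hS0 (p := 0) (w := 0) (by simp) (by simp)
    obtain ⟨g', b', h4, h5⟩ := apply_mv J hk hc hA h1
    obtain ⟨h6, h7⟩ := h3.resolve_left fun h => h.1 rfl
    refine ⟨g', _, b', h4, h5, by rw [det_mul, det_one_add_vecMulVec', h2, hA1, add_zero, one_mul], Or.inr fun e he => ?_⟩
    have ha0 : a ≠ 0 := fun h => by
      haveI : Nonempty (Fin m) := ⟨⟨0, by omega⟩⟩
      simp [ha, h] at hA1
    refine one_add_vecMulVec_nonscalar hm (by simpa using h6 0) (by simpa using h7 0) (e / a) ?_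
    rw [ha, Matrix.mul_smul, Matrix.mul_one] at he
    rw [div_eq_inv_mul, mul_smul, ← he, smul_smul, inv_mul_cancel₀ ha0, one_smul]
  by_cases hgood : Nice J A₁
  · exact ⟨g₁, A₁, b₁, hc₁, hcol₁, hd₁, hgood⟩
  simp only [Nice, not_or, not_and, Classical.not_imp, not_le] at hgood
  obtain ⟨hA11, hA12⟩ := hgood
  replace hns := hns.resolve_left hA11
  obtain ⟨hq, hrk⟩ := hA12 hns
  obtain ⟨p, w, hp, hw, hpw⟩ := exists_vecMulVec_of_rank_le_one (M := A₁ - 1) (by omega)
    (sub_ne_zero.2 hA11)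
  rw [sub_eq_iff_eq_add'] at hpw
  have hwp : w ⬝ᵥ p = 0 := by simpa [hpw, det_one_add_vecMulVec'] using hd₁
  have hA : A₁⁻¹ * A₁ = 1 := Matrix.nonsing_inv_mul _ (by rw [hd₁]; exact isUnit_one)
  have hS0 : C * A₁⁻¹ ≠ 0 := fun e => hC (by
    rw [← Matrix.mul_one C, ← hA, ← Matrix.mul_assoc, e, Matrix.zero_mul])
  obtain ⟨Y, r, h1, h2, h3⟩ := exists_fix hm (col_data J hk hcol₁ (hc₁.iso J hg) hA) hS0 hwp
    (iff_of_false hp hw)
  obtain ⟨g', b', h4, h5⟩ := apply_mv J hk hcol₁ hA h1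
  have hdet : ((1 + vecMulVec Y r) * A₁).det = 1 := by
    rw [det_mul, det_one_add_vecMulVec', h2, hd₁, add_zero, one_mul]
  refine ⟨g', _, b', hc₁.trans J h4, h5, hdet, ?_⟩
  rcases h3 with ⟨-, he⟩ | ⟨h6, h7⟩
  · left
    rw [he, hpw, Matrix.add_mul, Matrix.one_mul, Matrix.neg_mul, Matrix.mul_add, Matrix.mul_one,
      vecMulVec_mul_vecMulVec, hwp, zero_smul, vecMulVec_zero]
    abel
  · right
    set r' := r ᵥ* A₁ with hr'
    have hM : (1 + vecMulVec Y r) * A₁ - 1 = vecMulVec Y r' + vecMulVec p w := by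
      rw [Matrix.add_mul, Matrix.one_mul, vecMulVec_mul, ← hr', hpw]; abel
    have hwA : w ᵥ* A₁ = w := by
      rw [hpw, vecMul_add, vecMul_one, vecMul_vecMulVec, hwp, zero_smul, add_zero]
    have hr'' : ∀ c : K, r' ≠ c • w := fun c e => by
      refine h7 c ?_
      have h8 : (r - c • w) ᵥ* A₁ = 0 := by rw [sub_vecMul, smul_vecMul, hwA, ← hr', e, sub_self]
      have h9 := congrArg (· ᵥ* A₁⁻¹) h8
      simp only [vecMul_vecMul, mul_eq_one_comm.1 hA, vecMul_one, zero_vecMul] at h9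
      exact sub_eq_zero.1 h9
    have hrank : 2 ≤ ((1 + vecMulVec Y r) * A₁ - 1).rank := by
      rw [hM]; exact two_le_rank h6 hp hr'' hw
    refine ⟨fun e he => ?_, fun _ => hrank⟩
    -- a scalar of determinant one differing from one by rank at most two
    rw [he, det_smul, det_one, mul_one, Fintype.card_fin] at hdet
    have he1 : e ≠ 1 := fun h => by
      rw [he, h, one_smul, sub_self, rank_zero] at hrank; omega
    rcases (by omega : m = 2 ∨ 3 ≤ m) with rfl | hm3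
    · have h2' : (2 : K) = 0 := by
        have hcard : ((Fintype.card K : ℕ) : K) = 0 := FiniteField.cast_card_eq_zero K
        rw [J.card, hq, Nat.cast_pow] at hcard
        exact_mod_cast eq_zero_of_pow_eq_zero hcard
      exact he1 (sub_eq_zero.1 (pow_eq_zero_iff (n := 2) (by norm_num) |>.1
        (by linear_combination hdet + (1 - e) * h2')))
    · let f : (Fin m → K) →ₗ[K] (Fin 2 → K) := (Matrix.of ![r', w]).mulVecLin
      have hne : LinearMap.ker f ≠ ⊥ := fun hker => by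
        have := LinearMap.finrank_le_finrank_of_injective (LinearMap.ker_eq_bot.1 hker)
        simp at this; omega
      obtain ⟨z, hz, hz0⟩ := Submodule.exists_mem_ne_zero_of_ne_bot hne
      have hz1 : r' ⬝ᵥ z = 0 := congrFun (LinearMap.mem_ker.1 hz) 0
      have hz2 : w ⬝ᵥ z = 0 := congrFun (LinearMap.mem_ker.1 hz) 1
      have := congrArg (· *ᵥ z) hM
      simp only [he, sub_mulVec, smul_mulVec, one_mulVec, add_mulVec, vecMulVec_mulVec, hz1, hz2,
        MulOpposite.op_zero, zero_smul, add_zero] at this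
      exact he1 (sub_eq_zero.1 ((smul_eq_zero.1 (show (e - 1) • z = 0 by
        rw [sub_smul, one_smul]; exact this)).resolve_right hz0))

/-- The normal form. -/
theorem exists_normal (hm : 1 ≤ m) (hk : k ≤ 1) {g : 𝕄} (hg : Iso J 𝓗 g) (hgd : g.det = 1)
    (hns : ∀ e : K, g ≠ e • 1) :
    ∃ l x A Ai, Low J l ∧ Upp J x ∧ Conj J g (l * lev J A Ai 1 * x) ∧ Ai * A = 1 ∧ A.det = 1 ∧ Nice J A := by
  obtain ⟨g₀, A₀, b₀, C, h0, hcol₀, hC⟩ := exists_corner J hm hk hg hns
  have hd0 : g₀.det ≠ 0 := by rw [h0.det J, hgd]; exact one_ne_zero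
  -- make the middle entry nonzero
  obtain ⟨g₁, A₁, b₁, h1, hcol₁, hb₁⟩ : ∃ g₁ A₁ b₁, Conj J g₀ g₁ ∧ Col g₁ A₁ b₁ C ∧ (k = 0 ∨ b₁ ≠ 0) := by
    by_cases hb : k = 0 ∨ b₀ ≠ 0
    · exact ⟨g₀, A₀, b₀, Conj.refl J g₀, hcol₀, hb⟩
    push Not at hb
    obtain ⟨i, j, hij⟩ : ∃ i j, C i j ≠ 0 := by
      by_contra hc
      push Not at hc
      exact hC (Matrix.ext hc)
    obtain ⟨t, ht⟩ := J.exists_trace_one
    let r : Fin k := ⟨0, by omega⟩
    set v : Matrix (Fin m) (Fin k) K := Matrix.single i r 1 with hv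
    obtain ⟨g₁, h1, h2⟩ := hcol₀.move J (v := v) (T := -t • (v * sad J v)) (by
      rw [sad_smul, sad_mul, sad_sad, map_neg, ← add_smul, show -t + -J.σ t = -1 by linear_combination -ht,
        neg_one_smul, neg_add_cancel])
    refine ⟨g₁, _, _, h1, h2, Or.inr fun e => hij ?_⟩
    rw [hb.2, zero_sub, neg_eq_zero] at e
    have := congrFun (congrFun e r) j
    simpa [hv, sad, Matrix.mul_apply, Matrix.single_apply] using this
  have hd1 : g₁.det ≠ 0 := by rw [h1.det J]; exact hd0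
  obtain ⟨g₂, A₂, h2, hcol₂, hA₂⟩ := exists_invertible J hk hcol₁ ((h0.trans J h1).iso J hg) hd1
  have h02 := (h0.trans J h1).trans J h2
  obtain ⟨g₃, A₃, b₃, h3, hcol₃, hA₃⟩ := exists_det_one J hk hcol₂ (h02.iso J hg) ((h02.det J).trans hgd) hA₂ hC hb₁
  have h03 := h02.trans J h3
  obtain ⟨g₄, A₄, b₄, h4, hcol₄, hA₄, hnice⟩ : ∃ g₄ A₄ b₄, Conj J g₃ g₄ ∧ Col g₄ A₄ b₄ C ∧ A₄.det = 1 ∧ Nice J A₄ := by
    rcases (by omega : m = 1 ∨ 2 ≤ m) with rfl | hm2
    · refine ⟨g₃, A₃, b₃, Conj.refl J g₃, hcol₃, hA₃, Or.inl ?_⟩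
      ext i j
      rw [det_fin_one] at hA₃
      rw [Subsingleton.elim i 0, Subsingleton.elim j 0, hA₃, one_apply_eq]
    · exact exists_nice J hm2 hk hcol₃ (h03.iso J hg) hA₃ hC
  have h04 := h03.trans J h4
  have hA : A₄⁻¹ * A₄ = 1 := Matrix.nonsing_inv_mul _ (by rw [hA₄]; exact isUnit_one)
  obtain ⟨l, x, r, hl, hx, hgl, -, hd, hrk⟩ := exists_decomp J hk hcol₄ (h04.iso J hg) hA
  have hAi : (A₄⁻¹).det = 1 := by rw [det_nonsing_inv, hA₄, Ring.inverse_one]
  rw [h04.det J, hgd, hA₄, hAi, map_one, mul_one, one_mul] at hd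
  rw [show r = 1 by rw [← hrk]; exact hd.symm] at hgl
  exact ⟨l, x, A₄, _, hl, hx, hgl ▸ h04, hA, hA₄, hnice⟩

end CfsgLib.SUComm
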