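import Cfsg.Agent.Lib.SUComm.Model
import Cfsg.Agent.Lib.SpComm.Basic

/-!
A matrix killed by a polynomial coprime to its conjugate reverse has no twisted fixed point.
-/

set_option autoImplicit false
set_option linter.unusedSectionVars false

namespace CfsgLib.SUComm

open Matrix Polynomial

universe u

variable {K : Type u} [Field K] [Fintype K] (J : Cj K)
variable {ι κ : Type*} [Fintype ι] [DecidableEq ι]

/-- No root is paired with a root by conjugation and inversion. -/
def Good (P : K[X]) : Prop := IsCoprime P (P.map J.σ).reverse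

theorem map_map_σ (P : K[X]) : (P.map J.σ).map J.σ = P := by
  ext i; simp [J.σσ]

theorem aeval_sad (M : Matrix ι ι K) (f : K[X]) : aeval (sad J M) f = sad J (aeval M (f.map J.σ)) := by
  induction f using Polynomial.induction_on with
  | C a => simp [aeval_C, Algebra.algebraMap_eq_smul_one, J.σσ]
  | add p q hp hq => rw [map_add, Polynomial.map_add, map_add, sad_add, hp, hq]
  | monomial n a ih =>
    rw [pow_succ, ← mul_assoc, map_mul, ih, aeval_X, Polynomial.map_mul _ (p := C a * X ^ n), map_X,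
      mul_comm _ X, map_mul _ X, aeval_X, sad_mul]

theorem aeval_swap {M N : Matrix ι ι K} {S : Matrix ι ι K} (h : M * S = S * N) (f : K[X]) :
    aeval M f * S = S * aeval N f := by
  induction f using Polynomial.induction_on with
  | C c => rw [aeval_C, aeval_C]; exact Algebra.commutes c S
  | add p q hp hq => rw [map_add, map_add, add_mul, mul_add, hp, hq]
  | monomial n c ih =>
    rw [pow_succ, ← mul_assoc, map_mul _ (C c * X ^ n), map_mul _ (C c * X ^ n), aeval_X,
      aeval_X, mul_assoc, h, ← mul_assoc, ih, mul_assoc]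

theorem mul_aeval_eig {M : Matrix ι ι K} {u : Matrix κ ι K} {c : K} (h : u * M = c • u) (f : K[X]) :
    u * aeval M f = f.eval c • u := by
  induction f using Polynomial.induction_on with
  | C a => simp [aeval_C, Algebra.algebraMap_eq_smul_one]
  | add p q hp hq => rw [map_add, Matrix.mul_add, hp, hq, eval_add, add_smul]
  | monomial n a ih =>
    rw [pow_succ, ← mul_assoc, map_mul, aeval_X, ← Matrix.mul_assoc, ih, Matrix.smul_mul, h, smul_smul]
    simp [mul_assoc]

theorem aeval_eig_mul {M : Matrix ι ι K} {v : Matrix ι κ K} {c : K} (h : M * v = c • v) (f : K[X]) :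
    aeval M f * v = f.eval c • v := by
  induction f using Polynomial.induction_on with
  | C a => simp [aeval_C, Algebra.algebraMap_eq_smul_one]
  | add p q hp hq => rw [map_add, Matrix.add_mul, hp, hq, eval_add, add_smul]
  | monomial n a ih =>
    rw [pow_succ, ← mul_assoc, map_mul, aeval_X, Matrix.mul_assoc, h, Matrix.mul_smul, ih, smul_smul]
    congr 1; simp only [eval_mul, eval_X]; ring

theorem isUnit_aeval_inv {P : K[X]} (hP : Good J P) {s si : Matrix ι ι K} (hs : s * si = 1)
    (hk : aeval s P = 0) : IsUnit (aeval si (P.map J.σ)) := by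
  obtain ⟨a, b, hab⟩ := hP
  have h1 : aeval s b * aeval s (P.map J.σ).reverse = 1 := by
    have := congrArg (aeval s) hab
    simpa [map_add, map_mul, hk] using this
  have h2 : IsUnit (aeval s (P.map J.σ).reverse) := .of_mul_eq_one_right _ h1
  let S : (Matrix ι ι K)ˣ := ⟨s, si, hs, mul_eq_one_comm.1 hs⟩
  rw [Polynomial.reverse, show s = (S : Matrix ι ι K) from rfl, SpComm.aeval_reflect S _ _ le_rfl,
    ← Units.val_pow_eq_pow_val, Units.isUnit_units_mul] at h2
  exact h2

theorem fix_left {P : K[X]} (hP : Good J P) {s si : Matrix ι ι K} (hs : s * si = 1) (hk : aeval s P = 0)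
    {S : Matrix ι ι K} (h : sad J s * S * s = S) : S = 0 := by
  have h0 : sad J s * S = S * si := by
    conv_rhs => rw [← h, Matrix.mul_assoc, hs, Matrix.mul_one]
  have := aeval_swap h0 (P.map J.σ)
  rw [aeval_sad, map_map_σ, hk, sad_zero, zero_mul, eq_comm] at this
  obtain ⟨w, hw⟩ := isUnit_aeval_inv J hP hs hk
  rwa [← hw, Units.mul_left_eq_zero] at this

theorem fix_right {P : K[X]} (hP : Good J P) {s si : Matrix ι ι K} (hs : s * si = 1) (hk : aeval s P = 0)
    {S : Matrix ι ι K} (h : s * S * sad J s = S) : S = 0 := by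
  have h1 : sad J s * sad J si = 1 := by rw [← sad_mul, mul_eq_one_comm.1 hs, sad_one]
  have h0 : s * S = S * sad J si := by
    conv_rhs => rw [← h, Matrix.mul_assoc, h1, Matrix.mul_one]
  have := aeval_swap h0 P
  rw [hk, zero_mul, eq_comm, aeval_sad] at this
  obtain ⟨w, hw⟩ := isUnit_aeval_inv J hP hs hk
  have hu : IsUnit (sad J (aeval si (P.map J.σ))) := by
    rw [← hw]
    exact ⟨⟨sad J (w : Matrix ι ι K), sad J ((w⁻¹ : (Matrix ι ι K)ˣ) : Matrix ι ι K),
      by rw [← sad_mul, Units.inv_mul, sad_one], by rw [← sad_mul, Units.mul_inv, sad_one]⟩, rfl⟩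
  obtain ⟨w', hw'⟩ := hu
  rwa [← hw', Units.mul_left_eq_zero] at this

theorem eig_left {P : K[X]} {s : Matrix ι ι K} (hk : aeval s P = 0) {c : K} (hc : P.eval c ≠ 0)
    {u : Matrix κ ι K} (h : u * s = c • u) : u = 0 := by
  have := mul_aeval_eig h P
  rw [hk, Matrix.mul_zero] at this
  exact (smul_eq_zero.1 this.symm).resolve_left hc

theorem eig_right {P : K[X]} {s : Matrix ι ι K} (hk : aeval s P = 0) {c : K} (hc : P.eval c ≠ 0)
    {u : Matrix κ ι K} (h : u * sad J s = J.σ c • u) : u = 0 := by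
  have h' : s * sad J u = c • sad J u := by
    have := congrArg (sad J) h
    rwa [sad_mul, sad_sad, sad_smul, J.σσ] at this
  have := aeval_eig_mul h' P
  rw [hk, Matrix.zero_mul] at this
  have := congrArg (sad J) ((smul_eq_zero.1 this.symm).resolve_left hc)
  rwa [sad_sad, sad_zero] at this

/-- What is needed of a Levi part: it is a commutator of `GL` with a fixed-point-free first entry. -/
def Fac (k : ℕ) (A : Matrix ι ι K) : Prop :=
  ∃ (s si z zi : Matrix ι ι K) (P : K[X]) (c : K), s * si = 1 ∧ z * zi = 1 ∧ A = s * z * si * zi ∧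
    aeval s P = 0 ∧ Good J P ∧ P.eval c ≠ 0 ∧ J.σ c * c = 1 ∧ s.det * (c ^ k * J.σ si.det) = 1 ∧
    J.σ zi.det * z.det = 1

theorem isC_of_fac [Fintype κ] [DecidableEq κ] {A Ai : Matrix ι ι K} (hA : Fac J (Fintype.card κ) A)
    (hAi : Ai * A = 1) {l x : Matrix (ι ⊕ (κ ⊕ ι)) (ι ⊕ (κ ⊕ ι)) K} (hl : Low J l) (hx : Upp J x) :
    IsC J (Hm : Matrix (ι ⊕ (κ ⊕ ι)) (ι ⊕ (κ ⊕ ι)) K) (l * lev J A Ai 1 * x) := by
  obtain ⟨s, si, z, zi, P, c, hs, hz, hA', hk, hP, hc, hcn, hds, hdz⟩ := hA
  exact isC_of_factor J hs hz hA' hAi (ci := J.σ c) (by rw [mul_comm]; exact hcn) hcn hds hdz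
    (fun _ h => eig_left hk hc h) (fun _ h => eig_right J hk hc h) (fun _ h => fix_left J hP hs hk h)
    (fun _ h => fix_right J hP hs hk h) hl hx

end CfsgLib.SUComm
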